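import Cfsg.Agent.InvolCalc.AbelianCent.Model
import Cfsg.Agent.OddChar.Blichfeldt
import Cfsg.Agent.Known.Laws

/-!
# The central extension of `SL₂(2ⁿ) × B` splits
-/

set_option autoImplicit false
set_option linter.style.haveILetI false
set_option linter.unusedSectionVars false

namespace Cfsg.Lib.AbelianCent

open Subgroup Cfsg.Lib.InvolCalc
open scoped MatrixGroups

universe u

variable {G : Type u} [Group G] [Finite G]

theorem split (hG : Hyp G) {t : G} (ht : orderOf t = 2) {F : Type} [Field F] [Fintype F] [CharP F 2]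
    (hq : 4 ≤ Fintype.card F) {B : Type} [CommGroup B] [Finite B] (hB : Odd (Nat.card B))
    (π : G →* SL(2, F) × B) (hπ : Function.Surjective π) (hker : π.ker = center G) : IsModel G := by
  classical
  have hZ : Odd (Nat.card ↥(center G)) := center_odd hG
  set f : G →* SL(2, F) := (MonoidHom.fst _ B).comp π with hf
  set N := ((MonoidHom.snd SL(2, F) B).comp π).ker with hN
  set A₁ := f.ker with hA₁
  haveI : N.Normal := MonoidHom.normal_ker _
  set L := ⁅N, N⁆ with hL
  have hLN : L ≤ N := commutator_le_self N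
  have hfN : N.map f = ⊤ := by
    rw [eq_top_iff]
    intro s _
    obtain ⟨g, hg⟩ := hπ (s, 1)
    exact mem_map.2 ⟨g, by rw [hN, MonoidHom.mem_ker]; simp [hg], by simp [hf, hg]⟩
  have hfL : L.map f = ⊤ := by
    rw [hL, map_commutator, hfN, ← commutator_def, Cfsg.Lib.Known.sl2_commutator_eq_top F hq]
  have hmemker : ∀ g : G, g ∈ N → g ∈ A₁ → g ∈ center G := fun g h1 h2 => by
    rw [← hker, MonoidHom.mem_ker]
    exact Prod.ext (MonoidHom.mem_ker.1 h2) (MonoidHom.mem_ker.1 h1)
  -- `L` meets the kernel trivially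
  have hLA : ∀ g ∈ L, g ∈ A₁ → g = 1 := by
    intro g hgL hgA
    by_contra hg1
    have hgc := hmemker g (hLN hgL) hgA
    set r := (orderOf g).minFac with hr
    haveI : Fact r.Prime := ⟨Nat.minFac_prime fun h => hg1 (orderOf_eq_one_iff.1 h)⟩
    set z := g ^ (orderOf g / r)
    have hz : orderOf z = r := orderOf_pow_orderOf_div (orderOf_pos g).ne' (Nat.minFac_dvd _)
    have hzc : z ∈ center G := pow_mem hgc _
    have hr2 : r ≠ 2 := by
      intro e
      rw [e] at hz
      exact absurd (hz ▸ hZ.of_dvd_nat (orderOf_dvd_natCard _ hzc)) (by decide)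
    set zN : N := ⟨z, hLN (pow_mem hgL _)⟩
    have hzN : orderOf zN = r := by rw [Subgroup.orderOf_mk, hz]
    obtain ⟨R, hR⟩ := (IsPGroup.of_card (n := 1) (p := r)
      (by rw [Nat.card_zpowers, hzN, pow_one]) : IsPGroup r (zpowers zN)).exists_le_sylow
    let φ : ↥(R : Subgroup N) →* SL(2, F) := f.comp (N.subtype.comp (R : Subgroup N).subtype)
    haveI : IsCyclic ↥φ.range := isCyclic_of_odd hr2 (R.2.of_surjective φ.rangeRestrict φ.rangeRestrict_surjective)
    haveI : IsMulCommutative ↥(R : Subgroup N) := φ.rangeRestrict.isMulCommutative_of_isCyclic_of_ker_le_center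
      fun x hx => by
        rw [MonoidHom.mem_ker] at hx
        have hx' : ((x : N) : G) ∈ center G := hmemker _ (x : N).2 (congrArg Subtype.val hx)
        exact mem_center_iff.2 fun y => Subtype.ext (Subtype.ext (mem_center_iff.1 hx' _))
    have hcomm : zN ∈ commutator N := by
      have h : z ∈ (commutator N).map N.subtype := by
        rw [map_subtype_commutator]
        exact pow_mem hgL _
      obtain ⟨w, hw, hwz⟩ := mem_map.1 h
      rwa [show zN = w from Subtype.ext hwz.symm]
    have := Cfsg.Lib.OddChar.Blichfeldt.center_inter_commutator R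
      (mem_center_iff.2 fun y => Subtype.ext (mem_center_iff.1 hzc _)) hcomm (hR (mem_zpowers zN))
    rw [this, orderOf_one] at hzN
    exact (Fact.out : r.Prime).ne_one hzN.symm
  -- the factors commute
  have hcomm : ∀ l ∈ L, ∀ a ∈ A₁, l * a = a * l := by
    intro l hl a ha
    have h1 : l * a * l⁻¹ * a⁻¹ = 1 := by
      refine hLA _ ?_ ?_
      · rw [show l * a * l⁻¹ * a⁻¹ = l * (a * l⁻¹ * a⁻¹) by group]
        exact mul_mem hl ((inferInstance : L.Normal).conj_mem _ (inv_mem hl) a)
      · exact mul_mem ((MonoidHom.normal_ker f).conj_mem a ha l) (inv_mem ha)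
    calc l * a = l * a * l⁻¹ * a⁻¹ * (a * l) := by group
      _ = a * l := by rw [h1, one_mul]
  have hsurjL : ∀ s : SL(2, F), ∃ l ∈ L, f l = s := fun s => mem_map.1 (hfL ▸ Subgroup.mem_top s)
  have hiso : Function.Bijective (f.comp L.subtype) := by
    refine ⟨fun a b h => ?_, fun s => ?_⟩
    · refine inv_mul_eq_one.1 (Subtype.ext (hLA _ (a⁻¹ * b).2 ?_))
      show f ((a⁻¹ * b : L) : G) = 1
      have h' : f (a : G) = f (b : G) := h
      rw [Subgroup.coe_mul, Subgroup.coe_inv, map_mul, map_inv, h', inv_mul_cancel]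
    · obtain ⟨l, hl, e⟩ := hsurjL s
      exact ⟨⟨l, hl⟩, e⟩
  -- the kernel is abelian of odd order
  have hA1odd : Odd (Nat.card ↥A₁) := by
    set ψ := ((MonoidHom.snd SL(2, F) B).comp π).comp A₁.subtype
    rw [← ψ.ker.card_mul_index, index_ker]
    refine Odd.mul (hZ.of_dvd_nat ?_) (hB.of_dvd_nat (card_subgroup_dvd_card _))
    exact card_dvd_of_injective
      ((A₁.subtype.comp ψ.ker.subtype).codRestrict (center G) fun x => hmemker _ (MonoidHom.mem_ker.1 x.2) x.1.2)
      fun a b h => Subtype.ext (Subtype.ext (congrArg Subtype.val h :))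
  have htN : t ∈ N := by
    rw [hN, MonoidHom.mem_ker]
    refine eq_one_of_sq_of_odd ?_ (odd_orderOf_of_odd_card hB _)
    rw [← map_mul, sq_of_order_two ht, map_one]
  have htL : t ∈ L := by
    obtain ⟨l, hl, hfl⟩ := hsurjL (f t)
    have hz : l⁻¹ * t ∈ center G := hmemker _ (mul_mem (inv_mem (hLN hl)) htN)
      (by rw [hA₁, MonoidHom.mem_ker, map_mul, map_inv, hfl, inv_mul_cancel])
    have hl2 : l * l = 1 := by
      refine hLA _ (mul_mem hl hl) ?_
      rw [hA₁, MonoidHom.mem_ker, map_mul, hfl, ← map_mul, sq_of_order_two ht, map_one]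
    have h0 : l⁻¹ = l := inv_eq_of_mul_eq_one_left hl2
    have hz1 : l⁻¹ * t = 1 := by
      refine eq_one_of_sq_of_odd ?_ (hZ.of_dvd_nat (orderOf_dvd_natCard _ hz))
      rw [h0] at hz ⊢
      calc l * t * (l * t) = l * (t * (l * t)) := by group
        _ = l * (l * t * t) := by rw [mem_center_iff.1 hz t]
        _ = l * l * (t * t) := by group
        _ = 1 := by rw [hl2, sq_of_order_two ht, one_mul]
    rwa [inv_mul_eq_one.1 hz1] at hl
  letI : CommGroup A₁ :=
    { (inferInstance : Group A₁) with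
      mul_comm := fun a b => Subtype.ext (hG.ab t ht a (mem_centralizer_singleton_iff.2 (hcomm t htL a a.2).symm)
        b (mem_centralizer_singleton_iff.2 (hcomm t htL b b.2).symm)) }
  -- the product
  let μ : L × A₁ →* G :=
    { toFun := fun p => (p.1 : G) * (p.2 : G)
      map_one' := by simp
      map_mul' := fun p p' => by
        push_cast
        calc (p.1 : G) * (p'.1 : G) * ((p.2 : G) * (p'.2 : G))
            = (p.1 : G) * ((p'.1 : G) * (p.2 : G)) * (p'.2 : G) := by group
          _ = (p.1 : G) * ((p.2 : G) * (p'.1 : G)) * (p'.2 : G) := by rw [hcomm _ p'.1.2 _ p.2.2]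
          _ = _ := by group }
  have hμ : Function.Bijective μ := by
    refine ⟨fun p p' h => ?_, fun g => ?_⟩
    · have h' : (p.1 : G) * (p.2 : G) = (p'.1 : G) * (p'.2 : G) := h
      have hpf : p.1 = p'.1 := hiso.1 (by
        have := congrArg f h'
        rwa [map_mul, map_mul, MonoidHom.mem_ker.1 p.2.2, MonoidHom.mem_ker.1 p'.2.2, mul_one, mul_one] at this)
      exact Prod.ext hpf (Subtype.ext (mul_left_cancel (hpf ▸ h')))
    · obtain ⟨l, hl, hfl⟩ := hsurjL (f g)
      exact ⟨(⟨l, hl⟩, ⟨l⁻¹ * g, by rw [hA₁, MonoidHom.mem_ker, map_mul, map_inv, hfl, inv_mul_cancel]⟩),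
        mul_inv_cancel_left l g⟩
  let e1 : SL(2, F) ≃* L := (MulEquiv.ofBijective (f.comp L.subtype) hiso).symm
  refine ⟨F, inferInstance, inferInstance, Shrink.{0} A₁, inferInstance, inferInstance, inferInstance, ?_, ⟨?_⟩⟩
  · rwa [← Nat.card_congr (equivShrink.{0} A₁)]
  · exact (MulEquiv.ofBijective μ hμ).symm.trans (MulEquiv.prodCongr e1.symm (Shrink.mulEquiv.{0} (α := A₁)).symm)

end Cfsg.Lib.AbelianCent
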