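import Cfsg.Agent.InvolCalc.AbelianCent.CaseTwo
import Cfsg.Agent.InvolCalc.AbelianCent.Split
import Cfsg.Agent.InvolCalc.ElemCentPSL
import Cfsg.Agent.S1230

/-!
# Groups with abelian involution centralisers

If some Sylow `2`-subgroup is neither cyclic nor normal then the group is `SL₂(2ⁿ) × A`.
-/

set_option autoImplicit false
set_option linter.style.haveILetI false
set_option linter.unusedSectionVars false

namespace Cfsg.Lib.AbelianCent

open Subgroup Cfsg.Lib.InvolCalc

universe u

variable {G : Type u} [Group G] [Finite G] (hG : Hyp G)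
include hG

theorem exists_involution : ∃ t : G, orderOf t = 2 := by
  haveI : Fact (Nat.Prime 2) := ⟨Nat.prime_two⟩
  refine exists_prime_orderOf_dvd_card' 2 (by_contra fun h => hG.nc default ?_)
  haveI : Subsingleton ↥((default : Sylow 2 G) : Subgroup G) := by
    obtain ⟨k, hk⟩ := IsPGroup.iff_card.1 (default : Sylow 2 G).2
    rcases k with - | k
    · exact (Nat.card_eq_one_iff_unique.1 hk).1
    · exact absurd ((hk ▸ dvd_pow_self 2 (Nat.succ_ne_zero k)).trans (card_subgroup_dvd_card _)) h
  infer_instance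

/-- An involution modulo the centre lifts to an involution. -/
theorem lift_involution {v : G ⧸ center G} (hv : orderOf v = 2) :
    ∃ x : G, orderOf x = 2 ∧ QuotientGroup.mk x = v := by
  obtain ⟨g, rfl⟩ := QuotientGroup.mk_surjective v
  have hZ := center_odd hG
  have hg2 : g * g ∈ center G := (QuotientGroup.eq_one_iff _).1 (by
    rw [QuotientGroup.mk_mul, sq_of_order_two hv])
  refine ⟨g ^ Nat.card ↥(center G), ?_, ?_⟩
  · refine order_two_of_mul_self ?_ fun h => ?_
    · rw [← pow_add, ← two_mul, pow_mul, pow_two]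
      exact congrArg Subtype.val (pow_card_eq_one' (x := (⟨g * g, hg2⟩ : center G)) :)
    · have h' := orderOf_dvd_of_pow_eq_one (x := (QuotientGroup.mk g : G ⧸ center G))
        (n := Nat.card ↥(center G)) (by rw [← QuotientGroup.mk_pow, h, QuotientGroup.mk_one])
      rw [hv] at h'
      exact Nat.not_even_iff_odd.2 hZ (even_iff_two_dvd.2 h')
  · obtain ⟨k, hk⟩ := hZ
    rw [QuotientGroup.mk_pow, hk, pow_succ, pow_mul, pow_two, sq_of_order_two hv, one_pow, one_mul]

theorem hyp_quotient : Hyp (G ⧸ center G) := by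
  haveI : Fact (Nat.Prime 2) := ⟨Nat.prime_two⟩
  have hZ := center_odd hG
  have htwo : ∀ z ∈ center G, ∀ k : ℕ, z ^ 2 ^ k = 1 → z = 1 := fun z hz k h => by
    have h1 : Nat.Coprime (2 ^ k) (Nat.card ↥(center G)) := Nat.Coprime.pow_left k (Nat.coprime_two_left.2 hZ)
    exact orderOf_eq_one_iff.1 (Nat.eq_one_of_dvd_coprimes h1 (orderOf_dvd_of_pow_eq_one h)
      (orderOf_dvd_natCard _ hz))
  refine ⟨fun v hv a ha c hc => ?_, fun S hS => ?_, fun S hS => ?_⟩
  · obtain ⟨x, hx, rfl⟩ := lift_involution hG hv
    have key : ∀ g : G, (QuotientGroup.mk g : G ⧸ center G) ∈ centralizer ({(QuotientGroup.mk x : G ⧸ center G)} : Set _) →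
        g ∈ centralizer ({x} : Set G) := by
      intro g hg
      rw [mem_centralizer_singleton_iff, ← QuotientGroup.mk_mul, ← QuotientGroup.mk_mul, QuotientGroup.eq] at hg
      rw [mem_centralizer_singleton_iff]
      set z := (g * x)⁻¹ * (x * g) with hz
      have he : x * g = g * x * z := by rw [hz]; group
      have hz1 : z = 1 := by
        refine htwo z hg 1 ?_
        have h1 : g⁻¹ * x * g = x * z := by rw [mul_assoc, he]; group
        have h2 : (g⁻¹ * x * g) * (g⁻¹ * x * g) = 1 := by
          calc (g⁻¹ * x * g) * (g⁻¹ * x * g) = g⁻¹ * (x * x) * g := by group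
            _ = 1 := by rw [sq_of_order_two hx]; group
        rw [h1] at h2
        rw [pow_one, pow_two]
        calc z * z = x * x * (z * z) := by rw [sq_of_order_two hx, one_mul]
          _ = x * (x * z) * z := by group
          _ = x * (z * x) * z := by rw [mem_center_iff.1 hg x]
          _ = x * z * (x * z) := by group
          _ = 1 := h2
      rw [he, hz1, mul_one]
    obtain ⟨a, rfl⟩ := QuotientGroup.mk_surjective a
    obtain ⟨c, rfl⟩ := QuotientGroup.mk_surjective c
    rw [← QuotientGroup.mk_mul, ← QuotientGroup.mk_mul, hG.ab x hx a (key a ha) c (key c hc)]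
  · obtain ⟨T, rfl⟩ := Sylow.mapSurjective_surjective (QuotientGroup.mk'_surjective (center G)) 2 S
    rw [Sylow.coe_mapSurjective] at hS
    refine hG.nc T ?_
    haveI := hS
    refine isCyclic_of_injective ((QuotientGroup.mk' (center G)).subgroupMap (T : Subgroup G)) fun a b h => ?_
    have h' : (QuotientGroup.mk (a : G) : G ⧸ center G) = QuotientGroup.mk (b : G) := congrArg Subtype.val h
    rw [QuotientGroup.eq] at h'
    obtain ⟨k, hk⟩ := T.2 (a⁻¹ * b)
    refine inv_mul_eq_one.1 (Subtype.ext (htwo _ h' k ?_))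
    exact congrArg Subtype.val hk
  · obtain ⟨T, rfl⟩ := Sylow.mapSurjective_surjective (QuotientGroup.mk'_surjective (center G)) 2 S
    rw [Sylow.coe_mapSurjective] at hS
    refine hG.nn T ⟨fun x hx g => ?_⟩
    obtain ⟨s, hs, he⟩ := mem_map.1 (hS.conj_mem _ (mem_map_of_mem _ hx) (QuotientGroup.mk g))
    have he' : (QuotientGroup.mk s : G ⧸ center G) = QuotientGroup.mk (g * x * g⁻¹) := he
    rw [QuotientGroup.eq] at he'
    set z := s⁻¹ * (g * x * g⁻¹) with hz
    obtain ⟨i, hi⟩ := T.2 ⟨x, hx⟩
    obtain ⟨j, hj⟩ := T.2 ⟨s, hs⟩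
    have hi' : x ^ 2 ^ i = 1 := congrArg Subtype.val hi
    have hj' : s ^ 2 ^ j = 1 := congrArg Subtype.val hj
    have hc : Commute s z := mem_center_iff.1 he' s
    have h1 : z ^ 2 ^ (i + j) = 1 := by
      have h2 : (g * x * g⁻¹) ^ 2 ^ (i + j) = 1 := by
        rw [conj_pow, pow_add, pow_mul, hi', one_pow, mul_one, mul_inv_cancel]
      rw [show g * x * g⁻¹ = s * z by rw [hz]; group, hc.mul_pow, pow_add 2 i j, pow_mul' s, hj', one_pow,
        one_mul] at h2
      rwa [pow_add]
    have hz1 := htwo z he' _ h1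
    rw [hz, inv_mul_eq_one] at hz1
    exact hz1 ▸ hs

omit hG

/-- The theorem. -/
theorem main : ∀ (n : ℕ) {G : Type u} [Group G] [Finite G], Nat.card G = n → Hyp G → IsModel G := by
  intro n
  induction n using Nat.strong_induction_on with
  | _ n ih =>
    intro G _ _ hn hG
    haveI : Fact (Nat.Prime 2) := ⟨Nat.prime_two⟩
    obtain ⟨t, ht⟩ := exists_involution hG
    by_cases hZ : center G = ⊥
    · have h1 := caseOne_hyp hG (fun K hK hKh => ih _ (by
        rw [← hn]
        exact lt_of_le_of_ne (Nat.le_of_dvd Nat.card_pos (card_subgroup_dvd_card K))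
          (fun e => hK (eq_top_of_card_eq K e))) rfl hKh) hZ
      obtain ⟨F, _, _, hF, ⟨e⟩⟩ := Cfsg.Agent.S1230.result (default : Sylow 2 G) (hG.nc _) (hG.nn _)
        (fun v hv => ⟨⟨⟨fun a b => Subtype.ext (hG.ab v hv a a.2 b b.2)⟩⟩,
          fun c hc => by rw [pow_two]; exact elementary hG h1 hv c hc⟩)
      obtain ⟨k, hk⟩ := IsPGroup.iff_card.1 (default : Sylow 2 G).2
      haveI : CharP F 2 := charP_of_card_eq_prime_pow (R := F) (f := k) (by rw [hF, hk])
      obtain ⟨e'⟩ := Cfsg.Lib.ElemCent.psl_equiv (F := F)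
      refine ⟨F, inferInstance, inferInstance, PUnit, inferInstance, inferInstance, inferInstance,
        by simp, ⟨?_⟩⟩
      exact (e.trans e'.symm).trans MulEquiv.prodUnique.symm
    · have hlt : Nat.card (G ⧸ center G) < n := by
        have h := card_eq_card_quotient_mul_card_subgroup (center G)
        have h2 : 1 < Nat.card ↥(center G) :=
          Finite.one_lt_card_iff_nontrivial.2 ((nontrivial_iff_ne_bot _).2 hZ)
        rw [← hn, h]
        exact lt_mul_of_one_lt_right Nat.card_pos h2
      obtain ⟨F, _, _, B, _, _, hF, hB, ⟨e⟩⟩ := ih _ hlt rfl (hyp_quotient hG)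
      haveI := hF
      refine split hG ht (F := F) ?_ hB (e.toMonoidHom.comp (QuotientGroup.mk' (center G)))
        (e.surjective.comp (QuotientGroup.mk'_surjective _)) ?_
      · -- `|F| ≥ 4`: otherwise the image would have too few involutions
        by_contra hlt4
        have h2 : Fintype.card F = 2 := by
          obtain ⟨j, hj, hjF⟩ := FiniteField.card F 2
          rcases j with ⟨j, hj0⟩
          rcases Nat.lt_or_ge j 2 with hj2 | hj2
          · interval_cases j
            simpa using hjF
          · exfalso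
            have : 4 ≤ 2 ^ j := le_trans (by norm_num) (Nat.pow_le_pow_right two_pos hj2)
            simp at hjF
            omega
        have hcard := Nat.card_congr e.toEquiv
        rw [Nat.card_prod, Cfsg.Lib.Classical.SLTwoTori.card_SL2, h2] at hcard
        obtain ⟨S⟩ : Nonempty (Sylow 2 (G ⧸ center G)) := ⟨default⟩
        refine (hyp_quotient hG).nc S ?_
        haveI : Fact (Nat.Prime 2) := ⟨Nat.prime_two⟩
        refine isCyclic_of_prime_card (p := 2) ?_
        rw [S.card_eq_multiplicity, hcard]
        norm_num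
        rw [show (6 : ℕ) = 2 * 3 from rfl]
        rw [Nat.factorization_mul (by norm_num) (Nat.card_pos).ne', Nat.factorization_mul (by norm_num) (by norm_num)]
        simp [Nat.Prime.factorization_self Nat.prime_two,
          Nat.factorization_eq_zero_of_not_dvd (show ¬ 2 ∣ 3 by decide),
          Nat.factorization_eq_zero_of_not_dvd (show ¬ 2 ∣ Nat.card B from fun h => Nat.not_even_iff_odd.2 hB (even_iff_two_dvd.2 h))]
      · ext g
        simp

end Cfsg.Lib.AbelianCent
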