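import Cfsg.Agent.InvolCalc.AbelianCent.Local

/-!
# A group of shape `SL₂(q) × B` has no subgroup of order `(q² - 1)|B|`

`K` satisfies the hypotheses, `|C(t)| = q b`, `C(t)` has `q - 1` involutions and `|K| = q (q² - 1) b`.
In the action on the `q + 1` cosets of `N(C(t))` every point stabiliser in such a subgroup fixes
exactly one further point, which would pair up an odd number of points.
-/

set_option autoImplicit false
set_option linter.style.haveILetI false
set_option linter.unusedSectionVars false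

namespace Cfsg.Lib.AbelianCent

open Subgroup Cfsg.Lib.InvolCalc

universe u

theorem even_card_of_involutive {α : Type*} [Finite α] (σ : α → α) (h : ∀ x, σ (σ x) = x)
    (h' : ∀ x, σ x ≠ x) : Even (Nat.card α) := by
  classical
  haveI : Fintype α := Fintype.ofFinite α
  have h1 : ∑ _x : α, (1 : ZMod 2) = 0 :=
    Finset.sum_involution (fun x _ => σ x) (fun x _ => CharTwo.add_self_eq_zero _) (fun x _ _ => h' x)
      (fun x _ => Finset.mem_univ _) fun x _ => h x
  rw [Finset.sum_const, nsmul_eq_mul, mul_one, Finset.card_univ, ZMod.natCast_eq_zero_iff] at h1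
  rw [Nat.card_eq_fintype_card]
  exact even_iff_two_dvd.2 h1

theorem dvd_of_odd_of_dvd_two_pow_mul {x n m : ℕ} (hx : Odd x) (h : x ∣ 2 ^ n * m) : x ∣ m :=
  (Nat.Coprime.pow_right n (Nat.coprime_two_right.2 hx)).dvd_of_dvd_mul_left h

variable {K : Type u} [Group K] [Finite K] (hK : Hyp K)
include hK

/-- The involutions of `C(t)` correspond to the cosets of `C(t)` in its normaliser. -/
theorem index_eq {t : K} (ht : orderOf t = 2) :
    ((centralizer ({t} : Set K)).subgroupOf (normalizer (centralizer ({t} : Set K) : Set K))).index =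
      Nat.card {v : K // orderOf v = 2 ∧ v ∈ centralizer ({t} : Set K)} := by
  set A := centralizer ({t} : Set K)
  set M := normalizer (A : Set K)
  have htA : t ∈ A := mem_centralizer_singleton_iff.2 rfl
  rw [index_eq_card]
  refine Nat.card_eq_of_bijective
    (fun c => (⟨(c.out : M).1 * t * (c.out : M).1⁻¹, by rw [orderOf_conj, ht],
      (mem_normalizer_iff.1 (c.out : M).2 t).1 htA⟩ :
      {v : K // orderOf v = 2 ∧ v ∈ A})) ⟨fun a b h => ?_, fun v => ?_⟩
  · have h' : (a.out : M).1 * t * (a.out : M).1⁻¹ = (b.out : M).1 * t * (b.out : M).1⁻¹ := congrArg Subtype.val h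
    rw [← Quotient.out_eq a, ← Quotient.out_eq b]
    refine Quotient.sound (QuotientGroup.leftRel_apply.2 ?_)
    rw [mem_subgroupOf]
    push_cast
    refine mem_centralizer_singleton_iff.2 ?_
    calc (a.out : M).1⁻¹ * (b.out : M).1 * t
        = (a.out : M).1⁻¹ * ((b.out : M).1 * t * (b.out : M).1⁻¹) * (b.out : M).1 := by group
      _ = (a.out : M).1⁻¹ * ((a.out : M).1 * t * (a.out : M).1⁻¹) * (b.out : M).1 := by rw [h']
      _ = t * ((a.out : M).1⁻¹ * (b.out : M).1) := by group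
  · obtain ⟨g, hg⟩ := isConj_iff.1 (all_conj hK ht v.2.1)
    have hgM : g ∈ M := mem_normalizer hK ht ht htA (hg ▸ v.2.2)
    refine ⟨QuotientGroup.mk ⟨g, hgM⟩, Subtype.ext ?_⟩
    obtain ⟨a, ha⟩ := QuotientGroup.mk_out_eq_mul (A.subgroupOf M) ⟨g, hgM⟩
    show ((QuotientGroup.mk (⟨g, hgM⟩ : M) : M ⧸ A.subgroupOf M).out : M).1 * t *
      ((QuotientGroup.mk (⟨g, hgM⟩ : M) : M ⧸ A.subgroupOf M).out : M).1⁻¹ = v.1
    rw [ha, Subgroup.coe_mul]
    have ha' : ((a : M) : K) ∈ A := mem_subgroupOf.1 a.2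
    calc g * ((a : M) : K) * t * (g * ((a : M) : K))⁻¹
        = g * (((a : M) : K) * t * ((a : M) : K)⁻¹) * g⁻¹ := by group
      _ = g * t * g⁻¹ := by rw [hK.ab t ht _ ha' t htA, mul_inv_cancel_right]
      _ = v.1 := hg

variable {t : K} (ht : orderOf t = 2) {q b : ℕ} (hq : 4 ≤ q) (hq2 : ∃ n, q = 2 ^ n) (hb : Odd b)
  (hA : Nat.card ↥(centralizer ({t} : Set K)) = q * b)
  (hinv : Nat.card {v : K // orderOf v = 2 ∧ v ∈ centralizer ({t} : Set K)} = q - 1)
  (hcard : Nat.card K = q * (q ^ 2 - 1) * b)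
include ht hq hq2 hb hA hinv hcard

theorem card_points : Nat.card (K ⧸ normalizer (centralizer ({t} : Set K) : Set K)) = q + 1 ∧
    Nat.card ↥(normalizer (centralizer ({t} : Set K) : Set K)) = q * ((q - 1) * b) := by
  set A := centralizer ({t} : Set K)
  set M := normalizer (A : Set K)
  have hM : Nat.card ↥M = q * ((q - 1) * b) := by
    rw [← (A.subgroupOf M).card_mul_index, index_eq hK ht, hinv,
      Nat.card_congr (subgroupOfEquivOfLe (le_normalizer (H := A))).toEquiv, hA]
    ring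
  refine ⟨?_, hM⟩
  have h := M.card_mul_index
  rw [hM, hcard, show q ^ 2 - 1 = (q - 1) * (q + 1) by
    simpa [mul_comm] using Nat.sq_sub_sq q 1] at h
  rw [← index_eq_card]
  exact Nat.eq_of_mul_eq_mul_left (show 0 < q * ((q - 1) * b) by
    have := hb.pos; have : 0 < q - 1 := by omega
    positivity) (h.trans (by ring))

/-- A large odd subgroup meets `M` in a group of order `(q-1) b` fixing exactly one further point. -/
theorem fix_one {Y : Subgroup K} (hY : Nat.card ↥Y = (q ^ 2 - 1) * b) :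
    Nat.card ↥(Y ⊓ normalizer (centralizer ({t} : Set K) : Set K)) = (q - 1) * b ∧
      ∃! y : K ⧸ normalizer (centralizer ({t} : Set K) : Set K), y ≠ QuotientGroup.mk 1 ∧
        ∀ r ∈ Y ⊓ normalizer (centralizer ({t} : Set K) : Set K), r • y = y := by
  classical
  haveI : Fintype K := Fintype.ofFinite K
  set A := centralizer ({t} : Set K) with hAdef
  set M := normalizer (A : Set K) with hMdef
  obtain ⟨hΩ, hM⟩ := card_points hK ht hq hq2 hb hA hinv hcard
  rw [← hAdef, ← hMdef] at hΩ hM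
  obtain ⟨n, hn⟩ := hq2
  have hq1 : 0 < q - 1 := by omega
  have hev : Even q := by
    rw [hn]; refine (Nat.even_pow.2 ⟨even_two, ?_⟩)
    rintro rfl; omega
  have hYodd : Odd (Nat.card ↥Y) := by
    rw [hY]
    refine Odd.mul ?_ hb
    rw [Nat.odd_iff]
    obtain ⟨c, hc⟩ := hev
    subst hc
    have : (c + c) ^ 2 = 4 * (c * c) := by ring
    have : 1 ≤ c * c := Nat.one_le_iff_ne_zero.2 (by simp; omega)
    omega
  -- the order of the intersection
  set R := Y ⊓ M with hR
  have hRodd : Odd (Nat.card ↥R) := hYodd.of_dvd_nat (card_dvd_of_le inf_le_left)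
  have hRdvd : Nat.card ↥R ∣ (q - 1) * b := dvd_of_odd_of_dvd_two_pow_mul (n := n) hRodd (by
    have h := card_dvd_of_le (inf_le_right : R ≤ M)
    have h' : q * ((q - 1) * b) = 2 ^ n * ((q - 1) * b) := congrArg (· * ((q - 1) * b)) hn
    rwa [hM, h'] at h)
  have hRge : (q ^ 2 - 1) * b ≤ Nat.card ↥R * (q + 1) := by
    rw [← hY, ← hΩ, ← index_eq_card, ← Nat.card_congr (subgroupOfEquivOfLe (inf_le_left : Y ⊓ M ≤ Y)).toEquiv,
      ← (R.subgroupOf Y).card_mul_index]
    refine Nat.mul_le_mul_left _ ?_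
    show R.relIndex Y ≤ M.index
    rw [hR, inf_relIndex_left, ← relIndex_top_right M]
    exact relIndex_le_of_le_right le_top (by rw [relIndex_top_right]; exact index_ne_zero_of_finite)
  have hRcard : Nat.card ↥R = (q - 1) * b := by
    refine le_antisymm (Nat.le_of_dvd (Nat.mul_pos hq1 hb.pos) hRdvd) ?_
    rw [show q ^ 2 - 1 = (q + 1) * (q - 1) by simpa using Nat.sq_sub_sq q 1] at hRge
    exact Nat.le_of_mul_le_mul_left (by linarith) (show 0 < q + 1 by omega)
  refine ⟨hRcard, ?_⟩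
  -- the elementary abelian group of involutions
  let W : Subgroup K :=
    { carrier := {a | a ∈ A ∧ a * a = 1}
      one_mem' := ⟨A.one_mem, mul_one 1⟩
      mul_mem' := fun {a c} ha hc => ⟨A.mul_mem ha.1 hc.1, by
        calc a * c * (a * c) = a * (c * a) * c := by group
          _ = a * (a * c) * c := by rw [hK.ab t ht c hc.1 a ha.1]
          _ = a * a * (c * c) := by group
          _ = 1 := by rw [ha.2, hc.2, one_mul]⟩
      inv_mem' := fun {a} ha => ⟨A.inv_mem ha.1, by rw [← mul_inv_rev, ha.2, inv_one]⟩ }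
  letI : CommGroup W :=
    { (inferInstance : Group W) with
      mul_comm := fun a c => Subtype.ext (hK.ab t ht a a.2.1 c c.2.1) }
  have hWsq : ∀ w : W, w * w = 1 := fun w => Subtype.ext w.2.2
  have hWcard : Nat.card W = q := by
    have h2 := Nat.card_congr (Equiv.optionSubtypeNe (1 : W))
    rw [Finite.card_option] at h2
    have h3 : Nat.card {w : W // w ≠ 1} = Nat.card {v : K // orderOf v = 2 ∧ v ∈ A} := Nat.card_congr
      { toFun := fun w => ⟨w.1.1, order_two_of_mul_self w.1.2.2 (fun e => w.2 (Subtype.ext e)), w.1.2.1⟩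
        invFun := fun v => ⟨⟨v.1, v.2.2, sq_of_order_two v.2.1⟩, fun e =>
          ne_one_of_order_two v.2.1 (congrArg Subtype.val e)⟩
        left_inv := fun _ => rfl
        right_inv := fun _ => rfl }
    omega
  have hWM : ∀ w : W, (w : K) ∈ M := fun w => le_normalizer w.2.1
  have hconjW : ∀ r ∈ M, ∀ w : W, r * (w : K) * r⁻¹ ∈ W := fun r hr w =>
    ⟨(mem_normalizer_iff.1 hr _).1 w.2.1, by rw [conj_mul, w.2.2, mul_one, mul_inv_cancel]⟩
  set o : K ⧸ M := QuotientGroup.mk 1 with ho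
  have hfixo : ∀ r ∈ M, r • o = o := fun r hr => by
    rw [ho, MulAction.Quotient.smul_mk, smul_eq_mul, mul_one, QuotientGroup.eq, mul_one]
    exact inv_mem hr
  -- the regular action
  have hfree : ∀ y : K ⧸ M, y ≠ o → ∀ w w' : W, (w : K) • y = (w' : K) • y → w = w' := by
    intro y hy w w' h
    by_contra hne
    have hv : (((w'⁻¹ * w : W)) : K) • y = y := by
      push_cast
      rw [mul_smul, h, inv_smul_smul]
    have hne1 : ((w'⁻¹ * w : W) : K) ≠ 1 := fun e =>
      hne (inv_mul_eq_one.1 (Subtype.ext e : w'⁻¹ * w = 1)).symm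
    exact hy (Cfsg.Lib.StrongEmb.eq_of_fixed (strong hK ht)
      (order_two_of_mul_self (w'⁻¹ * w).2.2 hne1) hv (hfixo _ (hWM _)))
  have hmove : ∀ y : K ⧸ M, y ≠ o → ∀ w : W, (w : K) • y ≠ o := fun y hy w h => hy (by
    rw [eq_inv_smul_iff.2 h]; exact hfixo _ (inv_mem (hWM w)))
  have hreg : ∀ y : K ⧸ M, y ≠ o → ∀ z : K ⧸ M, z ≠ o → ∃ w : W, (w : K) • y = z := by
    intro y hy z hz
    have hbij : Function.Bijective (fun w : W => (⟨(w : K) • y, hmove y hy w⟩ : {z : K ⧸ M // z ≠ o})) := by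
      refine Function.Injective.bijective_of_nat_card_le (fun a c h => hfree y hy a c (congrArg Subtype.val h :)) ?_
      have h2 := Nat.card_congr (Equiv.optionSubtypeNe o)
      rw [Finite.card_option] at h2
      omega
    obtain ⟨w, hw⟩ := hbij.2 ⟨z, hz⟩
    exact ⟨w, congrArg Subtype.val hw⟩
  have hRmove : ∀ r ∈ R, ∀ y : K ⧸ M, y ≠ o → r • y ≠ o := fun r hr y hy h => hy (by
    rw [eq_inv_smul_iff.2 h]; exact hfixo _ (inv_mem hr.2))
  obtain ⟨y0, hy0⟩ : ∃ y : K ⧸ M, y ≠ o := by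
    haveI : Nontrivial (K ⧸ M) := Finite.one_lt_card_iff_nontrivial.1 (by omega)
    exact _root_.exists_ne o
  -- a fixed point: average the cocycle
  choose c hc using fun r : R => hreg y0 hy0 ((r : K) • y0) (hRmove r r.2 y0 hy0)
  haveI : Fintype R := Fintype.ofFinite R
  set P0 := ∏ r : R, c r with hP0
  have hfix : ∀ s : R, (s : K) • ((P0 : K) • y0) = (P0 : K) • y0 := by
    intro s
    let φ : W →* W :=
      { toFun := fun w => ⟨(s : K) * w * (s : K)⁻¹, hconjW s s.2.2 w⟩
        map_one' := Subtype.ext (by simp)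
        map_mul' := fun w w' => Subtype.ext conj_mul.symm }
    have hcoc : ∀ r : R, c (s * r) = φ (c r) * c s := by
      intro r
      refine hfree y0 hy0 _ _ ?_
      rw [hc (s * r)]
      push_cast
      rw [mul_smul, mul_smul, hc s, ← mul_smul (φ (c r) : K)]
      show (s : K) • ((r : K) • y0) = ((s : K) * (c r : K) * (s : K)⁻¹ * (s : K)) • y0
      rw [inv_mul_cancel_right, mul_smul, hc r]
    have h1 : P0 = φ P0 * (c s) ^ Nat.card R := by
      rw [hP0, map_prod, Nat.card_eq_fintype_card]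
      conv_lhs => rw [← Equiv.prod_comp (Equiv.mulLeft s) c]
      simp only [Equiv.coe_mulLeft, hcoc, Finset.prod_mul_distrib, Finset.prod_const, Finset.card_univ]
    obtain ⟨k, hk⟩ := hRodd
    rw [hk, pow_succ, pow_mul, pow_two, hWsq, one_pow, one_mul] at h1
    calc (s : K) • ((P0 : K) • y0) = ((φ P0 : W) : K) • ((s : K) • y0) := by
          rw [← mul_smul, ← mul_smul]
          show _ = ((s : K) * (P0 : K) * (s : K)⁻¹ * (s : K)) • y0
          rw [inv_mul_cancel_right]
      _ = ((φ P0 * c s : W) : K) • y0 := by rw [← hc s, Subgroup.coe_mul, mul_smul]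
      _ = (P0 : K) • y0 := by rw [← h1]
  refine ⟨(P0 : K) • y0, ⟨hmove y0 hy0 P0, fun r hr => hfix ⟨r, hr⟩⟩, ?_⟩
  -- uniqueness
  rintro z ⟨hz, hzfix⟩
  set y := (P0 : K) • y0
  have hy : y ≠ o := hmove y0 hy0 P0
  obtain ⟨w, hw⟩ := hreg y hy z hz
  rcases eq_or_ne w 1 with rfl | hw1
  · rw [← hw, OneMemClass.coe_one, one_smul]
  exfalso
  have hwo : orderOf (w : K) = 2 := order_two_of_mul_self w.2.2 fun e => hw1 (Subtype.ext e)
  have hRA : R ≤ A := by
    intro r hr
    have h1 : (⟨r * w * r⁻¹, hconjW r hr.2 w⟩ : W) = w := hfree y hy _ _ (by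
      show (r * (w : K) * r⁻¹) • y = (w : K) • y
      have hyfix : r • y = y := hfix ⟨r, hr⟩
      rw [mul_smul, mul_smul, inv_smul_eq_iff.2 hyfix.symm, hw, hzfix r hr])
    have h2 : r * (w : K) * r⁻¹ = w := congrArg Subtype.val h1
    rw [hAdef, ← cent_eq hK ht hwo w.2.1]
    exact mem_centralizer_singleton_iff.2 (mul_inv_eq_iff_eq_mul.1 h2)
  have := Nat.le_of_dvd hb.pos (dvd_of_odd_of_dvd_two_pow_mul hRodd (hn ▸ hA ▸ card_dvd_of_le hRA))
  rw [hRcard] at this
  have : 3 * b ≤ (q - 1) * b := Nat.mul_le_mul_right b (by omega)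
  have := hb.pos
  omega

/-- There is no subgroup of order `(q² - 1) b`. -/
theorem no_big_odd (X : Subgroup K) (hX : Nat.card ↥X = (q ^ 2 - 1) * b) : False := by
  classical
  set M := normalizer (centralizer ({t} : Set K) : Set K) with hMdef
  obtain ⟨hΩ, -⟩ := card_points hK ht hq hq2 hb hA hinv hcard
  have key : ∀ x : K ⧸ M, Nat.card ↥(X ⊓ MulAction.stabilizer K x) = (q - 1) * b ∧
      ∃! y : K ⧸ M, y ≠ x ∧ ∀ r ∈ X ⊓ MulAction.stabilizer K x, r • y = y := by
    intro x
    obtain ⟨k, rfl⟩ := QuotientGroup.mk_surjective x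
    set Y := X.map (MulAut.conj k⁻¹).toMonoidHom with hYdef
    have hY : Nat.card ↥Y = (q ^ 2 - 1) * b := by
      rw [hYdef, Subgroup.card_map_of_injective (MulEquiv.injective _), hX]
    obtain ⟨hcardR, y, ⟨hy1, hy2⟩, hu⟩ := fix_one hK ht hq hq2 hb hA hinv hcard hY
    have hmemY : ∀ r : K, r ∈ Y ↔ k * r * k⁻¹ ∈ X := fun r => by
      rw [hYdef, Cfsg.Lib.StrongEmb.mem_conj_iff, inv_inv]
    have hiff : ∀ r : K, r ∈ Y ⊓ M ↔ k * r * k⁻¹ ∈ X ⊓ MulAction.stabilizer K (QuotientGroup.mk k : K ⧸ M) := by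
      intro r
      rw [mem_inf, mem_inf, hmemY, MulAction.mem_stabilizer_iff, MulAction.Quotient.smul_mk, smul_eq_mul,
        QuotientGroup.eq, show (k * r * k⁻¹ * k)⁻¹ * k = r⁻¹ by group, inv_mem_iff]
    refine ⟨?_, k • y, ⟨?_, ?_⟩, ?_⟩
    · rw [← hcardR]
      exact (Nat.card_congr ((MulAut.conj k).toEquiv.subtypeEquiv hiff)).symm
    · intro e
      refine hy1 ?_
      rw [eq_inv_smul_iff.2 e, MulAction.Quotient.smul_mk, smul_eq_mul, inv_mul_cancel]
    · intro r hr
      have := hy2 (k⁻¹ * r * k) ((hiff _).2 (by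
        rwa [show k * (k⁻¹ * r * k) * k⁻¹ = r by group]))
      rw [mul_smul, mul_smul, inv_smul_eq_iff] at this
      exact this
    · rintro z ⟨hz1, hz2⟩
      rw [← hu (k⁻¹ • z) ⟨fun e => hz1 ?_, fun r hr => ?_⟩, smul_inv_smul]
      · rw [inv_smul_eq_iff.1 e, MulAction.Quotient.smul_mk, smul_eq_mul, mul_one]
      · have := hz2 _ ((hiff r).1 hr)
        rw [mul_smul, mul_smul] at this
        rw [← eq_inv_smul_iff] at this
        exact this
  choose hc σ hσ huniq using key
  refine Nat.not_even_iff_odd.2 ?_ (even_card_of_involutive σ (fun x => ?_) fun x => (hσ x).1)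
  · rw [hΩ]
    obtain ⟨n, rfl⟩ := hq2
    refine (Nat.even_pow.2 ⟨even_two, ?_⟩).add_one
    rintro rfl
    omega
  · refine (huniq (σ x) x ⟨(hσ x).1.symm, ?_⟩).symm
    have hle : X ⊓ MulAction.stabilizer K x ≤ X ⊓ MulAction.stabilizer K (σ x) := fun r hr =>
      ⟨hr.1, MulAction.mem_stabilizer_iff.2 ((hσ x).2 r hr)⟩
    rw [← Subgroup.eq_of_le_of_card_ge hle (by rw [hc, hc])]
    exact fun r hr => MulAction.mem_stabilizer_iff.1 hr.2

end Cfsg.Lib.AbelianCent
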