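import Cfsg.Agent.InvolCalc.AbelianCent.Local

/-!
# Abelian involution centralisers: no element of `C(t)` has its centraliser outside `N(C(t))`

If every non-identity element of `A = C(t)` has its centraliser in `M = N(A)`, then `A` is the
centraliser of each of its non-identity elements.  The proof counts, for an involution `u` outside
`M`, the elements of `M` inverted by `u`: they represent each coset of `A` in `M` exactly once.
-/

set_option autoImplicit false
set_option linter.style.haveILetI false
set_option linter.unusedSectionVars false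

namespace Cfsg.Lib.AbelianCent

open Subgroup Cfsg.Lib.InvolCalc

universe u

variable {G : Type u} [Group G] [Finite G]

theorem inv_flip {u j : G} (hu : orderOf u = 2) (hj : u * j * u = j⁻¹) : u * j⁻¹ * u = j := by
  rw [← hj]
  calc u * (u * j * u) * u = u * u * j * (u * u) := by group
    _ = j := by rw [sq_of_order_two hu, one_mul, mul_one]

theorem conj_mul_self {u x y : G} (hu : orderOf u = 2) : u * (x * y) * u = u * x * u * (u * y * u) := by
  calc u * (x * y) * u = u * x * 1 * y * u := by group
    _ = u * x * (u * u) * y * u := by rw [sq_of_order_two hu]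
    _ = _ := by group

/-- An involution outside a strongly embedded subgroup inverts at least as many elements of it as
it has involutions. -/
theorem card_inverted {K : Subgroup G} (hK : Cfsg.IsStronglyEmbedded K) {u : G} (hu : orderOf u = 2)
    (huK : u ∉ K) :
    Nat.card {t : G // orderOf t = 2 ∧ t ∈ K} ≤ Nat.card {j : G // j ∈ K ∧ u * j * u = j⁻¹} := by
  have hne : (QuotientGroup.mk 1 : G ⧸ K) ≠ QuotientGroup.mk u := fun h => huK (by
    rw [QuotientGroup.eq, inv_one, one_mul] at h; exact h)
  rw [← Cfsg.Lib.StrongEmb.card_swap hK _ _ hne]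
  refine Nat.card_le_card_of_injective (fun i => ⟨u * i.1, ?_, ?_⟩) fun a b h => ?_
  · have h := i.2.2
    rw [MulAction.Quotient.smul_mk, smul_eq_mul, mul_one, QuotientGroup.eq,
      inv_of_order_two i.2.1] at h
    have h' := inv_mem h
    rwa [mul_inv_rev, inv_of_order_two hu, inv_of_order_two i.2.1] at h'
  · calc u * (u * i.1) * u = u * u * (i.1 * u) := by group
      _ = (u * i.1)⁻¹ := by rw [sq_of_order_two hu, one_mul, mul_inv_rev, inv_of_order_two hu,
          inv_of_order_two i.2.1]
  · exact Subtype.ext (mul_left_cancel (congrArg Subtype.val h :))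

/-- An element of a strongly embedded subgroup inverted from outside has odd order. -/
theorem odd_of_inverted {K : Subgroup G} (hK : Cfsg.IsStronglyEmbedded K) {u : G} (hu : orderOf u = 2)
    (huK : u ∉ K) {j : G} (hj : j ∈ K) (hjinv : u * j * u = j⁻¹) : Odd (orderOf j) := by
  refine (hK.2.2 u huK).of_dvd_nat (orderOf_dvd_natCard _ (mem_inf.2 ⟨hj, Cfsg.Lib.StrongEmb.mem_conj_iff.2 ?_⟩))
  rw [inv_of_order_two hu, hjinv]
  exact inv_mem hj

theorem odd_sqrt {x : G} (h : Odd (orderOf x)) : ∃ k : ℕ, (x ^ k) * (x ^ k) = x := by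
  obtain ⟨k, hk⟩ := h
  refine ⟨k + 1, ?_⟩
  rw [← pow_add, show k + 1 + (k + 1) = (2 * k + 1) + 1 by omega, pow_succ, ← hk, pow_orderOf_eq_one,
    one_mul]

variable (hG : Hyp G)
include hG

/-- The index of `A` in `M` is at most the number of involutions of `M`. -/
theorem index_le {t : G} (ht : orderOf t = 2) :
    ((centralizer ({t} : Set G)).subgroupOf (normalizer (centralizer ({t} : Set G) : Set G))).index ≤
      Nat.card {v : G // orderOf v = 2 ∧ v ∈ normalizer (centralizer ({t} : Set G) : Set G)} := by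
  set A := centralizer ({t} : Set G)
  set M := normalizer (A : Set G)
  have htA : t ∈ A := mem_centralizer_singleton_iff.2 rfl
  rw [index_eq_card]
  refine Nat.card_le_card_of_injective
    (fun c => (⟨(c.out : M).1 * t * (c.out : M).1⁻¹, by rw [orderOf_conj, ht],
      le_normalizer ((mem_normalizer_iff.1 (c.out : M).2 t).1 htA)⟩ :
      {v : G // orderOf v = 2 ∧ v ∈ M})) fun a b h => ?_
  have h' : (a.out : M).1 * t * (a.out : M).1⁻¹ = (b.out : M).1 * t * (b.out : M).1⁻¹ := congrArg Subtype.val h
  rw [← Quotient.out_eq a, ← Quotient.out_eq b]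
  refine Quotient.sound (QuotientGroup.leftRel_apply.2 ?_)
  rw [mem_subgroupOf]
  push_cast
  refine mem_centralizer_singleton_iff.2 ?_
  calc (a.out : M).1⁻¹ * (b.out : M).1 * t
      = (a.out : M).1⁻¹ * ((b.out : M).1 * t * (b.out : M).1⁻¹) * (b.out : M).1 := by group
    _ = (a.out : M).1⁻¹ * ((a.out : M).1 * t * (a.out : M).1⁻¹) * (b.out : M).1 := by rw [h']
    _ = t * ((a.out : M).1⁻¹ * (b.out : M).1) := by group

variable (h1 : ∀ t : G, orderOf t = 2 → ∀ z ∈ centralizer ({t} : Set G), z ≠ 1 →
  centralizer ({z} : Set G) ≤ normalizer (centralizer ({t} : Set G) : Set G))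
include h1

/-- Two inverted elements in one coset of `A` coincide. -/
theorem inverted_unique {t u : G} (ht : orderOf t = 2) (hu : orderOf u = 2)
    (huM : u ∉ normalizer (centralizer ({t} : Set G) : Set G)) {j j' : G}
    (hj : j ∈ normalizer (centralizer ({t} : Set G) : Set G)) (hji : u * j * u = j⁻¹)
    (hji' : u * j' * u = j'⁻¹) (hb : j⁻¹ * j' ∈ centralizer ({t} : Set G)) : j = j' := by
  set A := centralizer ({t} : Set G)
  by_contra hne
  set b := j⁻¹ * j' with hbdef
  have hb1 : b ≠ 1 := fun e => hne (inv_mul_eq_one.1 e)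
  have hbu : u * b * u = j * b⁻¹ * j⁻¹ := by
    rw [hbdef, conj_mul_self hu, inv_flip hu hji, hji']
    group
  have hbuA : u * b * u ∈ A := hbu ▸ (mem_normalizer_iff.1 hj _).1 (inv_mem hb)
  have hbu1 : u * b * u ≠ 1 := by rwa [hbu, ne_eq, conj_eq_one_iff, inv_eq_one]
  have hmem := h1 t ht _ hbuA hbu1 (show u * t * u⁻¹ ∈ centralizer ({u * b * u} : Set G) by
    rw [show u * b * u = u * b * u⁻¹ by rw [inv_of_order_two hu]]
    exact conj_mem_cent (mem_centralizer_singleton_iff.2 (mem_centralizer_singleton_iff.1 hb).symm))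
  exact huM (mem_normalizer hG ht ht (mem_centralizer_singleton_iff.2 rfl)
    (involution_mem hG ht (by rw [orderOf_conj, ht]) hmem))

/-- Every coset of `A` in `M` contains an element inverted by `u`. -/
theorem exists_inverted {t u : G} (ht : orderOf t = 2) (hu : orderOf u = 2)
    (huM : u ∉ normalizer (centralizer ({t} : Set G) : Set G)) {m : G}
    (hm : m ∈ normalizer (centralizer ({t} : Set G) : Set G)) :
    ∃ j ∈ normalizer (centralizer ({t} : Set G) : Set G), u * j * u = j⁻¹ ∧
      j⁻¹ * m ∈ centralizer ({t} : Set G) := by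
  set A := centralizer ({t} : Set G)
  set M := normalizer (A : Set G)
  let f : {j : G // j ∈ M ∧ u * j * u = j⁻¹} → M ⧸ A.subgroupOf M := fun j =>
    QuotientGroup.mk (⟨j.1, j.2.1⟩ : M)
  have hinj : Function.Injective f := by
    intro a b h
    have h' := QuotientGroup.eq.1 h
    rw [mem_subgroupOf] at h'
    exact Subtype.ext (inverted_unique hG h1 ht hu huM a.2.1 a.2.2 b.2.2 h')
  have hbij : Function.Bijective f :=
    hinj.bijective_of_nat_card_le (le_trans (by rw [← index_eq_card]; exact index_le hG ht)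
      (card_inverted (strong hG ht) hu huM))
  obtain ⟨⟨j, hj, hji⟩, hjm⟩ := hbij.2 (QuotientGroup.mk ⟨m, hm⟩)
  have h' := QuotientGroup.eq.1 hjm
  rw [mem_subgroupOf] at h'
  exact ⟨j, hj, hji, h'⟩

/-- The centraliser of a non-identity element of `A` is `A`. -/
theorem cent_self {t z : G} (ht : orderOf t = 2) (hz : z ∈ centralizer ({t} : Set G)) (hz1 : z ≠ 1) :
    centralizer ({z} : Set G) = centralizer ({t} : Set G) := by
  set A := centralizer ({t} : Set G) with hA
  set M := normalizer (A : Set G) with hM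
  have htA : t ∈ A := mem_centralizer_singleton_iff.2 rfl
  refine le_antisymm (fun m hm => ?_) fun x hx => mem_centralizer_singleton_iff.2 (hG.ab t ht x hx z hz)
  have hmM := h1 t ht z hz hz1 hm
  obtain ⟨g, hg⟩ : ∃ g : G, g ∉ M := by
    by_contra hcon
    push Not at hcon
    exact normalizer_ne_top hG ht ((eq_top_iff' _).2 hcon)
  set u := g * t * g⁻¹ with hudef
  have hu : orderOf u = 2 := by rw [hudef, orderOf_conj, ht]
  have huM : u ∉ M := fun h => hg (mem_normalizer hG ht ht htA (involution_mem hG ht hu h))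
  obtain ⟨j, hjM, hji, hjm⟩ := exists_inverted hG h1 ht hu huM hmM
  rcases eq_or_ne j 1 with hj1 | hj1
  · rwa [hj1, inv_one, one_mul] at hjm
  exfalso
  have hjodd : Odd (orderOf j) := odd_of_inverted (strong hG ht) hu huM hjM hji
  have hcomm : u * j = j * u → False := by
    intro e
    refine hj1 (orderOf_eq_one_iff.1 (Nat.dvd_one.1 ?_))
    have h2 : j ^ 2 = 1 := by
      rw [pow_two]
      calc j * j = j * (u * u) * j := by rw [sq_of_order_two hu, mul_one]
        _ = j * u * (u * j) := by group
        _ = u * j * (j * u) := by rw [e]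
        _ = u * j * (u * j) := by rw [e]
        _ = u * j * u * j := by group
        _ = 1 := by rw [hji, inv_mul_cancel]
    rcases (Nat.dvd_prime Nat.prime_two).1 (orderOf_dvd_of_pow_eq_one h2) with e' | e'
    · rw [e']
    · rw [e'] at hjodd; exact absurd hjodd (by decide)
  -- no involution centralises `j`
  have hodd : ∀ c ∈ centralizer ({j} : Set G), Odd (orderOf c) := by
    intro c hc
    rw [← Nat.not_even_iff_odd]
    intro he
    set v := c ^ (orderOf c / 2)
    have hv : orderOf v = 2 := orderOf_pow_orderOf_div (orderOf_pos c).ne' he.two_dvd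
    have hvj : v ∈ centralizer ({j} : Set G) := pow_mem hc _
    have hjv : j ∈ centralizer ({v} : Set G) :=
      mem_centralizer_singleton_iff.2 (mem_centralizer_singleton_iff.1 hvj).symm
    have hvu : u * v * u⁻¹ ∈ centralizer ({j} : Set G) := by
      have := conj_mem_cent (g := u) (inv_mem hvj : v⁻¹ ∈ centralizer ({j} : Set G))
      rw [inv_of_order_two hv, show u * j * u⁻¹ = j⁻¹ by rw [inv_of_order_two hu, hji]] at this
      rw [mem_centralizer_singleton_iff] at this ⊢
      exact (Commute.inv_right_iff.1 this :)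
    have := h1 v hv j hjv hj1 hvu
    have huN := mem_normalizer hG hv hv (mem_centralizer_singleton_iff.2 rfl)
      (involution_mem hG hv (by rw [orderOf_conj, hv]) this)
    exact hcomm (hG.ab v hv u (involution_mem hG hv hu huN) j hjv)
  -- `u` inverts `z`
  have hzj : z ∈ centralizer ({j} : Set G) := by
    rw [mem_centralizer_singleton_iff]
    have e2 := hG.ab t ht _ hjm z hz
    have e1 := mem_centralizer_singleton_iff.1 hm
    calc z * j = z * m * (j⁻¹ * m)⁻¹ := by group
      _ = m * z * (j⁻¹ * m)⁻¹ := by rw [e1]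
      _ = j * (j⁻¹ * m * z) * (j⁻¹ * m)⁻¹ := by group
      _ = j * (z * (j⁻¹ * m)) * (j⁻¹ * m)⁻¹ := by rw [e2]
      _ = j * z := by group
  have hzu : u * z * u ∈ centralizer ({j} : Set G) := by
    have := conj_mem_cent (g := u) hzj
    rw [inv_of_order_two hu, hji] at this
    rw [mem_centralizer_singleton_iff] at this ⊢
    exact (Commute.inv_right_iff.1 this :)
  set c := z * (u * z * u)⁻¹ with hcdef
  have hcj : c ∈ centralizer ({j} : Set G) := mul_mem hzj (inv_mem hzu)
  obtain ⟨k, hk⟩ := odd_sqrt (hodd c hcj)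
  set i := c ^ k
  have huc : u * c * u = c⁻¹ := by
    rw [hcdef]
    calc u * (z * (u * z * u)⁻¹) * u = u * z * u⁻¹ * z⁻¹ := by group
      _ = (u * z * u) * z⁻¹ := by rw [inv_of_order_two hu]
      _ = (z * (u * z * u)⁻¹)⁻¹ := by group
  have hui : u * i * u = i⁻¹ :=
    calc u * i * u = u * c ^ k * u⁻¹ := by rw [inv_of_order_two hu]
      _ = (u * c * u⁻¹) ^ k := conj_pow.symm
      _ = i⁻¹ := by rw [inv_of_order_two hu, huc, inv_pow]
  have hcz : c⁻¹ * z = u * z * u := by rw [hcdef]; group
  set f := i⁻¹ * z with hfdef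
  have hfu : u * f * u = f := by
    rw [hfdef, conj_mul_self hu, inv_flip hu hui, ← hcz]
    calc i * (c⁻¹ * z) = i * ((i * i)⁻¹ * z) := by rw [hk]
      _ = i⁻¹ * z := by group
  have hf1 : f = 1 := by
    by_contra hf
    have hfu' : f ∈ centralizer ({u} : Set G) := mem_centralizer_singleton_iff.2 (by
      calc f * u = u * f * u * u := by rw [hfu]
        _ = u * f := by rw [mul_assoc, sq_of_order_two hu, mul_one])
    have hjN := h1 u hu f hfu' hf (show j ∈ centralizer ({f} : Set G) from
      mem_centralizer_singleton_iff.2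
        (mem_centralizer_singleton_iff.1 (mul_mem (inv_mem (pow_mem hcj k)) hzj)).symm)
    have huu : u ∈ centralizer ({u} : Set G) := mem_centralizer_singleton_iff.2 rfl
    have h2 : j * u * j⁻¹ ∈ centralizer ({u} : Set G) := (mem_normalizer_iff.1 hjN u).1 huu
    have h3 : j ^ 2 ∈ centralizer ({u} : Set G) := by
      have h4 : (j * u * j⁻¹)⁻¹ * u ∈ centralizer ({u} : Set G) := mul_mem (inv_mem h2) huu
      have h5 : (j * u * j⁻¹)⁻¹ * u = j ^ 2 := by
        calc (j * u * j⁻¹)⁻¹ * u = j * u⁻¹ * j⁻¹ * u := by group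
          _ = j * (u * j⁻¹ * u) := by rw [inv_of_order_two hu]; group
          _ = j ^ 2 := by rw [inv_flip hu hji, pow_two]
      rwa [h5] at h4
    obtain ⟨n, hn⟩ := odd_sqrt hjodd
    have h6 : j ∈ centralizer ({u} : Set G) := by
      have := pow_mem h3 n
      rwa [← pow_mul, two_mul, pow_add, hn] at this
    exact hcomm (mem_centralizer_singleton_iff.1 h6).symm
  have hzi : z = i := (inv_mul_eq_one.1 hf1).symm
  exact hz1 (inverted_unique hG h1 ht hu huM (one_mem M) (by rw [mul_one, sq_of_order_two hu, inv_one])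
    (hzi ▸ hui) (by rwa [inv_one, one_mul])).symm

/-- `C(t)` is an elementary abelian `2`-group. -/
theorem elementary {t : G} (ht : orderOf t = 2) : ∀ c ∈ centralizer ({t} : Set G), c * c = 1 := by
  set A := centralizer ({t} : Set G) with hA
  have htA : t ∈ A := mem_centralizer_singleton_iff.2 rfl
  have hne : A ≠ ⊤ := fun e => normalizer_ne_top hG ht (top_le_iff.1 (e.ge.trans le_normalizer))
  have hS : Cfsg.Lib.CASimple.Setup A :=
    ⟨hG.ab t ht, fun y hy hy1 => cent_self hG h1 ht hy hy1, ⟨t, htA, ht⟩, hne⟩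
  refine Cfsg.Lib.CASimple.sq_eq_one_of hS (fun hs hv => all_conj hG hs hv) (normalizer_ne_top hG ht) ?_
  obtain ⟨v, hvA, hv, hvt⟩ := exists_ne hG ht
  have hmem : ∀ x ∈ A, x * x = 1 → x ∈ Cfsg.Lib.CASimple.invPart hS := fun x h h' => ⟨h, h'⟩
  have htI := hmem t htA (sq_of_order_two ht)
  have hvI := hmem v hvA (sq_of_order_two hv)
  rw [← Nat.card_fin 4]
  refine Nat.card_le_card_of_injective (![(1 : Cfsg.Lib.CASimple.invPart hS), ⟨t, htI⟩, ⟨v, hvI⟩,
    ⟨t * v, mul_mem htI hvI⟩] : Fin 4 → Cfsg.Lib.CASimple.invPart hS) ?_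
  have a1 := ne_one_of_order_two ht
  have a2 := ne_one_of_order_two hv
  have a3 : t * v ≠ 1 := fun e => hvt (by
    calc v = t * t * v := by rw [sq_of_order_two ht, one_mul]
      _ = t := by rw [mul_assoc, e, mul_one])
  clear h1
  intro i k h
  fin_cases i <;> fin_cases k <;> simp [Subtype.ext_iff] at h <;>
    (first | rfl | exact absurd h a1 | exact absurd h.symm a1 | exact absurd h a2 | exact absurd h.symm a2 | exact absurd h a3 | exact absurd h.symm a3 | exact absurd h hvt | exact absurd h.symm hvt)

end Cfsg.Lib.AbelianCent
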