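import Cfsg.Agent.InvolCalc.StronglyEmbedded
import Cfsg.Agent.InvolCalc.Classes
import Cfsg.Agent.InvolCalc.CASimple
import Cfsg.Agent.Chev.Springer.Star

/-!
# Abelian involution centralisers: the strongly embedded subgroup

Let `G` be a finite group in which the centraliser of every involution is abelian, with a Sylow
`2`-subgroup that is neither cyclic nor normal.  Then for an involution `t` the normaliser of
`A = C(t)` is strongly embedded, and the involutions of this normaliser lie in `A`.
-/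

set_option autoImplicit false
set_option linter.style.haveILetI false
set_option linter.unusedSectionVars false

namespace Cfsg.Lib.AbelianCent

open Subgroup Cfsg.Lib.InvolCalc

universe u

variable {G : Type u} [Group G] [Finite G]

/-- The hypothesis: involution centralisers are abelian, some Sylow `2`-subgroup is neither cyclic
nor normal. -/
structure Hyp (G : Type u) [Group G] [Finite G] : Prop where
  ab : ∀ t : G, orderOf t = 2 → ∀ a ∈ centralizer ({t} : Set G), ∀ b ∈ centralizer ({t} : Set G), a * b = b * a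
  nc : ∀ S : Sylow 2 G, ¬ IsCyclic ↥(S : Subgroup G)
  nn : ∀ S : Sylow 2 G, ¬ (S : Subgroup G).Normal

theorem orderOf_conj (g x : G) : orderOf (g * x * g⁻¹) = orderOf x :=
  MulEquiv.orderOf_eq (MulAut.conj g) x

theorem conj_mem_cent {g x y : G} (h : y ∈ centralizer ({x} : Set G)) :
    g * y * g⁻¹ ∈ centralizer ({g * x * g⁻¹} : Set G) := by
  rw [mem_centralizer_singleton_iff] at h ⊢
  rw [conj_mul, conj_mul, h]

theorem conj_mem_cent_iff {g x y : G} :
    g * y * g⁻¹ ∈ centralizer ({g * x * g⁻¹} : Set G) ↔ y ∈ centralizer ({x} : Set G) := by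
  refine ⟨fun h => ?_, conj_mem_cent⟩
  have h1 := conj_mem_cent (g := g⁻¹) h
  rwa [show g⁻¹ * (g * y * g⁻¹) * g⁻¹⁻¹ = y by group, show g⁻¹ * (g * x * g⁻¹) * g⁻¹⁻¹ = x by group] at h1

variable (hG : Hyp G)
include hG

/-- Commuting involutions have the same centraliser. -/
theorem cent_eq {t v : G} (ht : orderOf t = 2) (hv : orderOf v = 2) (hvt : v ∈ centralizer ({t} : Set G)) :
    centralizer ({v} : Set G) = centralizer ({t} : Set G) := by
  have htv : t ∈ centralizer ({v} : Set G) :=
    mem_centralizer_singleton_iff.2 (mem_centralizer_singleton_iff.1 hvt).symm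
  exact le_antisymm (fun x hx => mem_centralizer_singleton_iff.2 (hG.ab v hv x hx t htv))
    fun x hx => mem_centralizer_singleton_iff.2 (hG.ab t ht x hx v hvt)

/-- The Sylow `2`-subgroups contained in the centraliser of an involution. -/
theorem exists_sylow_le {t : G} (ht : orderOf t = 2) :
    ∃ S : Sylow 2 G, (S : Subgroup G) ≤ centralizer ({t} : Set G) := by
  haveI : Fact (Nat.Prime 2) := ⟨Nat.prime_two⟩
  obtain ⟨S, hS⟩ := (IsPGroup.of_card (n := 1)
    (by rw [Nat.card_zpowers, ht, pow_one]) : IsPGroup 2 (zpowers t)).exists_le_sylow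
  have htS := hS (mem_zpowers t)
  haveI : Nontrivial ↥(S : Subgroup G) := ⟨⟨⟨t, htS⟩, 1, fun e => by
    rw [Subtype.mk.injEq] at e; rw [e, OneMemClass.coe_one, orderOf_one] at ht; omega⟩⟩
  haveI := S.2.center_nontrivial
  obtain ⟨z, hz⟩ := exists_prime_orderOf_dvd_card' (G := ↥(center ↥(S : Subgroup G))) 2 (by
    obtain ⟨k, hk⟩ := IsPGroup.iff_card.1 (S.2.to_subgroup (center ↥(S : Subgroup G)))
    rcases k with - | k
    · rw [pow_zero] at hk
      exact absurd hk (Finite.one_lt_card).ne'
    · exact hk ▸ dvd_pow_self 2 (Nat.succ_ne_zero k))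
  obtain ⟨⟨z, hzS⟩, hzc⟩ := z
  rw [Subgroup.orderOf_mk, Subgroup.orderOf_mk] at hz
  rw [Subgroup.mem_center_iff] at hzc
  refine ⟨S, fun x hx => ?_⟩
  rw [← cent_eq hG ht hz (mem_centralizer_singleton_iff.2 (congrArg Subtype.val (hzc ⟨t, htS⟩)).symm)]
  exact mem_centralizer_singleton_iff.2 (congrArg Subtype.val (hzc ⟨x, hx⟩))

/-- The Sylow `2`-subgroups of `C(t)` contain all of its `2`-elements. -/
theorem mem_sylow {t : G} (ht : orderOf t = 2) {S : Sylow 2 G}
    (hS : (S : Subgroup G) ≤ centralizer ({t} : Set G)) {x : G} (hx : x ∈ centralizer ({t} : Set G))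
    (hx2 : IsPGroup 2 (zpowers x)) : x ∈ (S : Subgroup G) := by
  have hle : zpowers x ≤ normalizer ((S : Subgroup G) : Set G) := by
    rw [zpowers_le, mem_normalizer_iff]
    intro y
    have key : ∀ y ∈ (S : Subgroup G), x * y * x⁻¹ = y := fun y hy => by
      rw [hG.ab t ht x hx y (hS hy), mul_inv_cancel_right]
    refine ⟨fun hy => by rw [key y hy]; exact hy, fun hy => ?_⟩
    have h1 : x * (x⁻¹ * (x * y * x⁻¹) * x) * x⁻¹ = x * y * x⁻¹ := by group
    have h2 : x⁻¹ * (x * y * x⁻¹) * x = x * y * x⁻¹ := by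
      rw [mul_assoc x⁻¹, ← hG.ab t ht x hx _ (hS hy)]
      group
    rw [show y = x⁻¹ * (x * y * x⁻¹) * x by group, h2]
    exact hy
  have h := hx2.to_sup_of_normal_right' S.2 hle
  exact (S.3 h le_sup_right).le (le_sup_left (a := zpowers x) (b := (S : Subgroup G)) (mem_zpowers x))

theorem normalizer_ne_top {t : G} (ht : orderOf t = 2) :
    normalizer (centralizer ({t} : Set G) : Set G) ≠ ⊤ := by
  intro htop
  haveI : Fact (Nat.Prime 2) := ⟨Nat.prime_two⟩
  obtain ⟨S, hS⟩ := exists_sylow_le hG ht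
  refine hG.nn S ⟨fun x hx g => ?_⟩
  have hg : g ∈ normalizer (centralizer ({t} : Set G) : Set G) := htop ▸ Subgroup.mem_top g
  refine mem_sylow hG ht hS ((mem_normalizer_iff.1 hg x).1 (hS hx)) ?_
  obtain ⟨k, hk⟩ := IsPGroup.iff_orderOf.1 S.2 ⟨x, hx⟩
  rw [Subgroup.orderOf_mk] at hk
  exact IsPGroup.of_card (n := k) (by rw [Nat.card_zpowers, orderOf_conj, hk])

/-- An element fusing two involutions of `C(t)` normalises `C(t)`. -/
theorem mem_normalizer {t v g : G} (ht : orderOf t = 2) (hv : orderOf v = 2)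
    (hvt : v ∈ centralizer ({t} : Set G)) (hg : g * v * g⁻¹ ∈ centralizer ({t} : Set G)) :
    g ∈ normalizer (centralizer ({t} : Set G) : Set G) := by
  have h1 := cent_eq hG ht hv hvt
  have h2 := cent_eq hG ht (by rw [orderOf_conj, hv]) hg
  refine mem_normalizer_iff.2 fun x => ?_
  show x ∈ centralizer ({t} : Set G) ↔ g * x * g⁻¹ ∈ centralizer ({t} : Set G)
  constructor
  · intro hx
    rw [← h2]
    rw [← h1] at hx
    exact conj_mem_cent hx
  · intro hx
    rw [← h1]
    rw [← h2] at hx
    exact conj_mem_cent_iff.1 hx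

theorem odd_index {t : G} (ht : orderOf t = 2) :
    Odd ((centralizer ({t} : Set G)).relIndex (normalizer (centralizer ({t} : Set G) : Set G))) := by
  haveI : Fact (Nat.Prime 2) := ⟨Nat.prime_two⟩
  obtain ⟨S, hS⟩ := exists_sylow_le hG ht
  refine Nat.not_even_iff_odd.1 fun he => S.not_dvd_index ?_
  exact he.two_dvd.trans ((relIndex_dvd_index_of_le le_normalizer).trans (index_dvd_of_le hS))

/-- The involutions of `N(C(t))` lie in `C(t)`. -/
theorem involution_mem {t v : G} (ht : orderOf t = 2) (hv : orderOf v = 2)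
    (hvM : v ∈ normalizer (centralizer ({t} : Set G) : Set G)) : v ∈ centralizer ({t} : Set G) := by
  obtain ⟨m, hm⟩ := odd_index hG ht
  haveI : ((centralizer ({t} : Set G)).subgroupOf (normalizer (centralizer ({t} : Set G) : Set G))).Normal :=
    normal_in_normalizer
  have h1 := pow_index_mem ((centralizer ({t} : Set G)).subgroupOf
    (normalizer (centralizer ({t} : Set G) : Set G))) ⟨v, hvM⟩
  rw [← Subgroup.relIndex, hm, mem_subgroupOf, SubgroupClass.coe_pow] at h1
  rwa [pow_succ, pow_mul, pow_two, sq_of_order_two hv, one_pow, one_mul] at h1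

/-- `N(C(t))` is strongly embedded. -/
theorem strong {t : G} (ht : orderOf t = 2) :
    Cfsg.IsStronglyEmbedded (normalizer (centralizer ({t} : Set G) : Set G)) := by
  have hself : t ∈ centralizer ({t} : Set G) := mem_centralizer_singleton_iff.2 rfl
  refine Cfsg.Lib.StrongEmb.of_conditions (normalizer_ne_top hG ht) ?_ ?_ ?_
  · rw [even_iff_two_dvd, ← ht]
    exact orderOf_dvd_natCard _ (le_normalizer hself)
  · intro v hv hvo
    rw [cent_eq hG ht hvo (involution_mem hG ht hvo hv)]
    exact le_normalizer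
  · intro v hv s hs hvo hso hc
    obtain ⟨g, hg⟩ := isConj_iff.1 hc
    exact ⟨g, mem_normalizer hG ht hvo (involution_mem hG ht hvo hv) (hg ▸ involution_mem hG ht hso hs), hg⟩

/-- All involutions are conjugate. -/
theorem all_conj {s v : G} (hs : orderOf s = 2) (hv : orderOf v = 2) : IsConj s v :=
  Cfsg.Lib.StrongEmb.all_conj (strong hG hs) hs hv

omit hG in
theorem mem_involSet {A : Subgroup G} {x : G} :
    x ∈ {x : G | orderOf x = 2 ∧ x ∈ A} ↔ orderOf x = 2 ∧ x ∈ A := Iff.rfl

/-- `C(t)` contains an involution different from `t`. -/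
theorem exists_ne {t : G} (ht : orderOf t = 2) :
    ∃ v ∈ centralizer ({t} : Set G), orderOf v = 2 ∧ v ≠ t := by
  haveI : Fact (Nat.Prime 2) := ⟨Nat.prime_two⟩
  obtain ⟨S, hS⟩ := exists_sylow_le hG ht
  by_contra hcon
  push Not at hcon
  refine hG.nc S ?_
  letI : CommGroup ↥(S : Subgroup G) :=
    { (inferInstance : Group ↥(S : Subgroup G)) with
      mul_comm := fun a b => Subtype.ext (hG.ab t ht a (hS a.2) b (hS b.2)) }
  refine Cfsg.Lib.Chev.Springer.isCyclic_of_prime_ker fun p hp => ?_
  haveI : Fact p.Prime := ⟨hp⟩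
  have hker : ∀ x : ↥(S : Subgroup G), x ∈ (powMonoidHom p : ↥(S : Subgroup G) →* ↥(S : Subgroup G)).ker →
      x = 1 ∨ (x : G) = t := by
    intro x hx
    rcases eq_or_ne x 1 with h1 | h1
    · exact .inl h1
    right
    obtain ⟨k, hk⟩ := IsPGroup.iff_orderOf.1 S.2 x
    have hxp : orderOf x = p := orderOf_eq_prime hx h1
    have hp2 : p = 2 := by
      rw [hk] at hxp
      rcases k with - | k
      · exact absurd (pow_zero 2 ▸ hxp).symm hp.ne_one
      · exact ((Nat.prime_dvd_prime_iff_eq Nat.prime_two hp).1 (hxp ▸ dvd_pow_self 2 (Nat.succ_ne_zero k))).symm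
    exact hcon x (hS x.2) (by rw [Subgroup.orderOf_coe, hxp, hp2])
  refine le_trans ?_ hp.two_le
  have : ∀ x : ↥(powMonoidHom p : ↥(S : Subgroup G) →* ↥(S : Subgroup G)).ker,
      ((x : ↥(S : Subgroup G)) : G) ∈ ({1, t} : Set G) := fun x => by
    rcases hker x.1 x.2 with h | h
    · simp [h]
    · simp [h]
  calc Nat.card ↥(powMonoidHom p : ↥(S : Subgroup G) →* ↥(S : Subgroup G)).ker
      ≤ Nat.card ({1, t} : Set G) := Nat.card_le_card_of_injective (fun x => (⟨_, this x⟩ : ({1, t} : Set G)))
        fun x y h => Subtype.ext (Subtype.ext (congrArg Subtype.val h :))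
    _ ≤ 2 := by
      rw [Nat.card_coe_set_eq]
      exact (Set.ncard_insert_le 1 {t}).trans (by rw [Set.ncard_singleton])

/-- The centre has no involution and lies in every `C(t)`. -/
theorem center_odd : Odd (Nat.card ↥(center G)) := by
  rw [← Nat.not_even_iff_odd]
  intro he
  obtain ⟨z, hz, hzo⟩ := Cfsg.Lib.StrongEmb.exists_involution_of_even he
  refine (strong hG hzo).1 ((eq_top_iff' _).2 fun g => le_normalizer ?_)
  exact mem_centralizer_singleton_iff.2 (mem_center_iff.1 hz g)

end Cfsg.Lib.AbelianCent
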