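import Cfsg.Agent.InvolCalc.AbelianCent.SLFacts
import Cfsg.Agent.InvolCalc.AbelianCent.Local

/-!
# The numerical invariants of `SL₂(2ⁿ) × A`, `A` odd abelian
-/

set_option autoImplicit false
set_option linter.style.haveILetI false
set_option linter.unusedSectionVars false

namespace Cfsg.Lib.AbelianCent

open Subgroup Cfsg.Lib.InvolCalc

universe u

/-- The conclusion of the theorem. -/
def IsModel (K : Type u) [Group K] : Prop :=
  ∃ (F : Type) (_ : Field F) (_ : Fintype F) (B : Type) (_ : CommGroup B) (_ : Finite B),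
    CharP F 2 ∧ Odd (Nat.card B) ∧ Nonempty (K ≃* Matrix.SpecialLinearGroup (Fin 2) F × B)

theorem eq_one_of_sq_of_odd {H : Type u} [Group H] {x : H} (h : x * x = 1) (hodd : Odd (orderOf x)) :
    x = 1 := by
  by_contra h1
  have h2 : orderOf x = 2 := Cfsg.Lib.InvolCalc.order_two_of_mul_self h h1
  rw [h2] at hodd
  exact absurd hodd (by decide)

theorem odd_orderOf_of_odd_card {H : Type u} [Group H] [Finite H] (h : Odd (Nat.card H)) (x : H) :
    Odd (orderOf x) :=
  h.of_dvd_nat (orderOf_dvd_natCard x)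

/-- The invariants. -/
theorem model_facts {K : Type u} [Group K] [Finite K] (hK : Hyp K) (hmod : IsModel K) {t : K}
    (ht : orderOf t = 2) : ∃ q n b : ℕ, q = 2 ^ n ∧ 4 ≤ q ∧ Odd b ∧
      Nat.card ↥(centralizer ({t} : Set K)) = q * b ∧
      Nat.card {v : K // orderOf v = 2 ∧ v ∈ centralizer ({t} : Set K)} = q - 1 ∧
      Nat.card K = q * (q ^ 2 - 1) * b ∧
      Nat.card {a : K // a ∈ centralizer ({t} : Set K) ∧ Odd (orderOf a)} = b ∧
      ∀ a ∈ centralizer ({t} : Set K), Odd (orderOf a) → ∀ k : K, k * a = a * k := by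
  classical
  obtain ⟨F, _, _, B, _, _, hF, hB, ⟨e⟩⟩ := hmod
  haveI := hF
  obtain ⟨s, sB, hs⟩ : ∃ s sB, e t = (s, sB) := ⟨_, _, rfl⟩
  have htt : e t * e t = 1 := by rw [← map_mul, sq_of_order_two ht, map_one]
  rw [hs, Prod.mk_mul_mk, Prod.mk_eq_one] at htt
  have hsB : sB = 1 := eq_one_of_sq_of_odd htt.2 (odd_orderOf_of_odd_card hB sB)
  subst hsB
  have hs1 : s ≠ 1 := fun h => ne_one_of_order_two ht (e.injective (by rw [hs, h, map_one]; rfl))
  obtain ⟨hsq, hcs⟩ := cent_invol htt.1 hs1
  have hmem : ∀ a : K, a ∈ centralizer ({t} : Set K) ↔ (e a).1 ∈ centralizer ({s} : Set _) := fun a => by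
    rw [mem_centralizer_singleton_iff, mem_centralizer_singleton_iff, ← e.injective.eq_iff, map_mul, map_mul,
      hs, Prod.ext_iff]
    simp
  -- odd elements of the centraliser are central
  have hodd1 : ∀ a ∈ centralizer ({t} : Set K), Odd (orderOf a) → (e a).1 = 1 := by
    intro a ha ho
    refine eq_one_of_sq_of_odd (hsq _ ((hmem a).1 ha)) (ho.of_dvd_nat ?_)
    exact orderOf_map_dvd ((MonoidHom.fst _ _).comp e.toMonoidHom) a
  set q := Fintype.card F with hq
  obtain ⟨n, -, hn⟩ := FiniteField.card F 2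
  have hA : Nat.card ↥(centralizer ({t} : Set K)) = q * Nat.card B := by
    rw [← hcs, ← Nat.card_prod]
    exact Nat.card_congr
      { toFun := fun a => (⟨(e a.1).1, (hmem a.1).1 a.2⟩, (e a.1).2)
        invFun := fun p => ⟨e.symm (p.1.1, p.2), (hmem _).2 (by rw [e.apply_symm_apply]; exact p.1.2)⟩
        left_inv := fun a => Subtype.ext (e.symm_apply_apply a.1)
        right_inv := fun p => by simp }
  have hinv : Nat.card {v : K // orderOf v = 2 ∧ v ∈ centralizer ({t} : Set K)} = q - 1 := by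
    have h2 := Nat.card_congr (Equiv.optionSubtypeNe (1 : ↥(centralizer ({s} : Set (Matrix.SpecialLinearGroup (Fin 2) F)))))
    rw [Finite.card_option, hcs] at h2
    suffices h : Nat.card {v : K // orderOf v = 2 ∧ v ∈ centralizer ({t} : Set K)} =
        Nat.card {x : ↥(centralizer ({s} : Set (Matrix.SpecialLinearGroup (Fin 2) F))) // x ≠ 1} by omega
    have h2B : ∀ v : K, orderOf v = 2 → (e v).2 = 1 := fun v hv =>
      eq_one_of_sq_of_odd (by rw [← Prod.snd_mul, ← map_mul, sq_of_order_two hv, map_one]; rfl)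
        (odd_orderOf_of_odd_card hB _)
    refine Nat.card_congr
      { toFun := fun v => ⟨⟨(e v.1).1, (hmem _).1 v.2.2⟩, fun h => ne_one_of_order_two v.2.1 (e.injective ?_)⟩
        invFun := fun x => ⟨e.symm (x.1.1, 1), order_two_of_mul_self ?_ ?_, (hmem _).2 (by
          rw [e.apply_symm_apply]; exact x.1.2)⟩
        left_inv := fun v => Subtype.ext ?_
        right_inv := fun x => by simp }
    · rw [map_one]
      exact Prod.ext (congrArg Subtype.val h :) (h2B _ v.2.1)
    · rw [← map_mul, Prod.mk_mul_mk, hsq _ x.1.2, one_mul, Prod.mk_one_one, map_one]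
    · exact fun h => x.2 (Subtype.ext (by
        have := congrArg e h
        rw [e.apply_symm_apply, map_one] at this
        exact congrArg Prod.fst this))
    · show e.symm ((e v.1).1, 1) = v.1
      rw [← h2B _ v.2.1]
      exact e.symm_apply_apply v.1
  have hq4 : 4 ≤ q := by
    obtain ⟨v, hvA, hv, hvt⟩ := exists_ne hK ht
    have h2 : 2 ≤ Nat.card {v : K // orderOf v = 2 ∧ v ∈ centralizer ({t} : Set K)} := by
      refine (Nat.card_fin 2).ge.trans (Nat.card_le_card_of_injective (![⟨t, ht, mem_centralizer_singleton_iff.2 rfl⟩, ⟨v, hv, hvA⟩] :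
        Fin 2 → {v : K // orderOf v = 2 ∧ v ∈ centralizer ({t} : Set K)}) ?_)
      intro i k h
      fin_cases i <;> fin_cases k <;> first | rfl | exact absurd (congrArg Subtype.val h :) hvt.symm | exact absurd (congrArg Subtype.val h :) hvt
    rw [hinv] at h2
    have h3 : q = 2 ^ (n : ℕ) := hn
    rcases Nat.lt_or_ge (n : ℕ) 2 with h4 | h4
    · have : q ≤ 2 ^ 1 := h3 ▸ Nat.pow_le_pow_right two_pos (by omega)
      omega
    · rw [h3]
      exact le_trans (by norm_num) (Nat.pow_le_pow_right two_pos h4)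
  refine ⟨q, n, Nat.card B, hn, hq4, hB, hA, hinv, ?_, ?_, ?_⟩
  · rw [Nat.card_congr e.toEquiv, Nat.card_prod, Cfsg.Lib.Classical.SLTwoTori.card_SL2]
  · refine Nat.card_congr
      { toFun := fun a => (e a.1).2
        invFun := fun x => ⟨e.symm (1, x), (hmem _).2 (by rw [e.apply_symm_apply]; exact one_mem _), ?_⟩
        left_inv := fun a => Subtype.ext ?_
        right_inv := fun x => by simp }
    · refine (odd_orderOf_of_odd_card hB x).of_dvd_nat ?_
      exact orderOf_map_dvd (e.symm.toMonoidHom.comp (MonoidHom.inr _ B)) x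
    · show e.symm (1, (e a.1).2) = a.1
      rw [← hodd1 a.1 a.2.1 a.2.2]
      exact e.symm_apply_apply a.1
  · intro a ha ho k
    refine e.injective ?_
    rw [map_mul, map_mul]
    refine Prod.ext ?_ ?_
    · rw [Prod.fst_mul, Prod.fst_mul, hodd1 a ha ho, mul_one, one_mul]
    · rw [Prod.snd_mul, Prod.snd_mul, mul_comm]

end Cfsg.Lib.AbelianCent
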