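import Cfsg.Agent.InvolCalc.AbelianCent.CaseOne
import Cfsg.Agent.InvolCalc.AbelianCent.BigOdd
import Cfsg.Agent.InvolCalc.AbelianCent.Model

/-!
# Abelian involution centralisers: in a centreless group every `C(y)`, `y ∈ C(t)`, lies in `N(C(t))`

Otherwise `C(y) ≅ SL₂(q) × B` is strongly embedded, and an involution outside inverts at least
`q² - 1` of its elements, lying in distinct cosets of `B`; this gives an odd subgroup of order
`(q² - 1)|B|` in `C(y)`.
-/

set_option autoImplicit false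
set_option linter.style.haveILetI false
set_option linter.unusedSectionVars false

namespace Cfsg.Lib.AbelianCent

open Subgroup Cfsg.Lib.InvolCalc

universe u

variable {G : Type u} [Group G] [Finite G] (hG : Hyp G)
include hG

/-- A subgroup containing `C(t)` but not inside its normaliser inherits the hypotheses. -/
theorem hyp_sub {t : G} (ht : orderOf t = 2) {K : Subgroup G} (hAK : centralizer ({t} : Set G) ≤ K)
    (hKM : ¬ K ≤ normalizer (centralizer ({t} : Set G) : Set G)) : Hyp ↥K := by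
  haveI : Fact (Nat.Prime 2) := ⟨Nat.prime_two⟩
  obtain ⟨S, hS⟩ := exists_sylow_le hG ht
  set SK : Sylow 2 ↥K := S.subtype (hS.trans hAK)
  have hSK : ∀ x : K, x ∈ (SK : Subgroup ↥K) ↔ (x : G) ∈ (S : Subgroup G) := fun x => by
    rw [Sylow.coe_subtype]; exact mem_subgroupOf
  refine ⟨fun v hv a ha c hc => ?_, fun T hT => ?_, fun T hT => ?_⟩
  · have hv' : orderOf (v : G) = 2 := by rw [Subgroup.orderOf_coe, hv]
    refine Subtype.ext (hG.ab _ hv' a ?_ c ?_)
    · exact mem_centralizer_singleton_iff.2 (congrArg Subtype.val (mem_centralizer_singleton_iff.1 ha))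
    · exact mem_centralizer_singleton_iff.2 (congrArg Subtype.val (mem_centralizer_singleton_iff.1 hc))
  · refine hG.nc S ?_
    haveI := hT
    haveI : IsCyclic ↥(SK : Subgroup ↥K) := (Sylow.equiv T SK).isCyclic.1 hT
    exact isCyclic_of_surjective (((MonoidHom.id G).comp (K.subtype.comp (SK : Subgroup ↥K).subtype)).codRestrict
      (S : Subgroup G) (fun x => (hSK x.1).1 x.2)) fun y => ⟨⟨⟨y, hS.trans hAK y.2⟩, (hSK _).2 y.2⟩, rfl⟩
  · refine hKM fun g hg => ?_
    haveI : Unique (Sylow 2 ↥K) := T.unique_of_normal hT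
    have hN : (SK : Subgroup ↥K).Normal := by rw [Subsingleton.elim SK T]; exact hT
    haveI : Nontrivial ↥(S : Subgroup G) := (Subgroup.nontrivial_iff_ne_bot _).2
      (S.ne_bot_of_dvd_card (ht ▸ orderOf_dvd_natCard t))
    obtain ⟨v, hv⟩ := exists_prime_orderOf_dvd_card' (G := ↥(S : Subgroup G)) 2 (by
      obtain ⟨k, hk⟩ := IsPGroup.iff_card.1 S.2
      rcases k with - | k
      · exact absurd hk (Finite.one_lt_card).ne'
      · exact hk ▸ dvd_pow_self 2 (Nat.succ_ne_zero k))
    rw [← Subgroup.orderOf_coe] at hv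
    have := (hSK _).1 (hN.conj_mem ⟨(v : G), hS.trans hAK v.2⟩ ((hSK _).2 v.2) ⟨g, hg⟩)
    exact mem_normalizer hG ht hv (hS v.2) (hS this)

variable (hmod : ∀ K : Subgroup G, K ≠ ⊤ → Hyp ↥K → IsModel ↥K) (hZ : center G = ⊥)
include hmod hZ

/-- The facts about `K = C(y)` when it is not contained in `N(C(t))`. -/
theorem centraliser_facts {t y : G} (ht : orderOf t = 2) (hy : y ∈ centralizer ({t} : Set G)) (hy1 : y ≠ 1)
    (hyM : ¬ centralizer ({y} : Set G) ≤ normalizer (centralizer ({t} : Set G) : Set G)) :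
    centralizer ({t} : Set G) ≤ centralizer ({y} : Set G) ∧ centralizer ({y} : Set G) ≠ ⊤ ∧
    Hyp ↥(centralizer ({y} : Set G)) ∧ Odd (orderOf y) ∧
      ∀ a ∈ centralizer ({t} : Set G), Odd (orderOf a) → ∀ k ∈ centralizer ({y} : Set G), k * a = a * k := by
  set K := centralizer ({y} : Set G)
  have hAK : centralizer ({t} : Set G) ≤ K := fun x hx => mem_centralizer_singleton_iff.2 (hG.ab t ht x hx y hy)
  have htop : K ≠ ⊤ := fun h => hy1 (by
    rw [← Subgroup.mem_bot (G := G), ← hZ, mem_center_iff]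
    exact fun g => mem_centralizer_singleton_iff.1 (show g ∈ K from h ▸ Subgroup.mem_top g))
  have hH := hyp_sub hG ht hAK hyM
  have hyodd : Odd (orderOf y) := by
    rw [← Nat.not_even_iff_odd]
    intro he
    set v := y ^ (orderOf y / 2)
    have hv : orderOf v = 2 := orderOf_pow_orderOf_div (orderOf_pos y).ne' he.two_dvd
    refine hyM ?_
    refine le_trans (fun x hx => ?_) le_normalizer
    rw [← cent_eq hG ht hv (pow_mem hy _)]
    exact mem_centralizer_singleton_iff.2
      (((show Commute x y from mem_centralizer_singleton_iff.1 hx).pow_right _).eq)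
  refine ⟨hAK, htop, hH, hyodd, fun a ha hao k hk => ?_⟩
  have htK : t ∈ K := hAK (mem_centralizer_singleton_iff.2 rfl)
  obtain ⟨q, n, b, -, -, -, -, -, -, -, hc⟩ := model_facts hH (hmod K htop hH) (t := ⟨t, htK⟩) (by rw [Subgroup.orderOf_mk, ht])
  exact congrArg Subtype.val (hc ⟨a, hAK ha⟩ (mem_centralizer_singleton_iff.2
    (Subtype.ext (mem_centralizer_singleton_iff.1 ha))) (by rwa [Subgroup.orderOf_mk]) ⟨k, hk⟩)

/-- No centraliser escapes. -/
theorem caseTwo_false {t y : G} (ht : orderOf t = 2) (hy : y ∈ centralizer ({t} : Set G)) (hy1 : y ≠ 1)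
    (hyM : ¬ centralizer ({y} : Set G) ≤ normalizer (centralizer ({t} : Set G) : Set G)) : False := by
  classical
  obtain ⟨hAK, hKtop, hKhyp, hyodd, hcent⟩ := centraliser_facts hG hmod hZ ht hy hy1 hyM
  set A := centralizer ({t} : Set G) with hAdef
  set M := normalizer (A : Set G) with hMdef
  set K := centralizer ({y} : Set G) with hKdef
  have htA : t ∈ A := mem_centralizer_singleton_iff.2 rfl
  -- `K` is the centraliser of every odd element of `A`
  have hKb : ∀ a ∈ A, a ≠ 1 → Odd (orderOf a) → centralizer ({a} : Set G) = K := by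
    intro a ha ha1 hao
    have hle : K ≤ centralizer ({a} : Set G) := fun k hk => mem_centralizer_singleton_iff.2 (hcent a ha hao k hk)
    obtain ⟨-, -, -, -, hc'⟩ := centraliser_facts hG hmod hZ ht ha ha1 fun h => hyM (hle.trans h)
    exact le_antisymm (fun k hk => mem_centralizer_singleton_iff.2 (hc' y hy hyodd k hk)) hle
  have hKt : ∀ v : G, orderOf v = 2 → v ∈ K → ∃ k ∈ K, k * t * k⁻¹ = v := by
    intro v hv hvK
    obtain ⟨k, hk⟩ := isConj_iff.1 (all_conj hKhyp (s := ⟨t, hAK htA⟩) (v := ⟨v, hvK⟩)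
      (by rw [Subgroup.orderOf_mk, ht]) (by rw [Subgroup.orderOf_mk, hv]))
    exact ⟨k, k.2, congrArg Subtype.val hk⟩
  -- `M ≤ K`
  have hMK : M ≤ K := by
    intro m hm
    have hnorm : ∀ m ∈ M, ∀ k ∈ K, m * k * m⁻¹ ∈ K := by
      intro m hm k hk
      have h1 : m * y * m⁻¹ ∈ A := (mem_normalizer_iff.1 hm y).1 hy
      rw [← hKb _ h1 (fun e => hy1 (conj_eq_one_iff.1 e)) (by rwa [orderOf_conj])]
      exact conj_mem_cent hk
    obtain ⟨k, hk, he⟩ := hKt (m * t * m⁻¹) (by rw [orderOf_conj, ht]) (hnorm m hm t (hAK htA))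
    have : k⁻¹ * m ∈ A := mem_centralizer_singleton_iff.2 (by
      calc k⁻¹ * m * t = k⁻¹ * (m * t * m⁻¹) * m := by group
        _ = k⁻¹ * (k * t * k⁻¹) * m := by rw [he]
        _ = t * (k⁻¹ * m) := by group)
    simpa using mul_mem hk (hAK this)
  -- `K` is strongly embedded
  have hK : Cfsg.IsStronglyEmbedded K := by
    refine Cfsg.Lib.StrongEmb.of_conditions hKtop ?_ ?_ ?_
    · rw [even_iff_two_dvd, ← ht]; exact orderOf_dvd_natCard _ (hAK htA)
    · intro v hv hvo x hx
      obtain ⟨k, hk, rfl⟩ := hKt v hvo hv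
      have : k⁻¹ * x * k ∈ A := by
        have h := conj_mem_cent (g := k⁻¹) hx
        rwa [inv_inv, show k⁻¹ * (k * t * k⁻¹) * k = t by group] at h
      simpa [mul_assoc] using mul_mem (mul_mem hk (hAK this)) (inv_mem hk)
    · intro v hv w hw hvo hwo _
      obtain ⟨k, hk, hk'⟩ := hKt v hvo hv
      obtain ⟨l, hl, hl'⟩ := hKt w hwo hw
      exact ⟨l * k⁻¹, mul_mem hl (inv_mem hk), by rw [← hl', ← hk']; group⟩
  obtain ⟨g, hg⟩ : ∃ g : G, g ∉ K := by
    by_contra hcon
    push Not at hcon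
    exact hKtop ((eq_top_iff' _).2 hcon)
  set u := g * t * g⁻¹ with hudef
  have hu : orderOf u = 2 := by rw [hudef, orderOf_conj, ht]
  have huK : u ∉ K := fun h => hg (Cfsg.Lib.StrongEmb.conj_eq hK ht (hAK htA) h)
  -- numbers
  set tK : K := ⟨t, hAK htA⟩
  have htK : orderOf tK = 2 := by rw [Subgroup.orderOf_mk, ht]
  obtain ⟨q, n, b, hn, hq4, hb, hA, hinv, hcard, hBcard, hcentral⟩ := model_facts hKhyp (hmod K hKtop hKhyp) htK
  set AK := centralizer ({tK} : Set K) with hAKdef
  -- the subgroup of odd elements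
  let B : Subgroup K :=
    { carrier := {a | a ∈ AK ∧ Odd (orderOf a)}
      one_mem' := ⟨AK.one_mem, by rw [orderOf_one]; exact odd_one⟩
      mul_mem' := fun {a c} ha hc => ⟨AK.mul_mem ha.1 hc.1,
        (ha.2.mul hc.2).of_dvd_nat ((Commute.orderOf_mul_dvd_lcm (hKhyp.ab tK htK a ha.1 c hc.1)).trans
          (Nat.lcm_dvd (dvd_mul_right _ _) (dvd_mul_left _ _)))⟩
      inv_mem' := fun {a} ha => ⟨AK.inv_mem ha.1, by rw [orderOf_inv]; exact ha.2⟩ }
  have hBc : Nat.card B = b := hBcard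
  haveI hBn : B.Normal := ⟨fun x hx k => by
    rw [hcentral x hx.1 hx.2 k, mul_inv_cancel_right]; exact hx⟩
  set R := (K ⊓ K.map (MulAut.conj u).toMonoidHom).subgroupOf K with hRdef
  set Q := R.map (QuotientGroup.mk' B) with hQdef
  set X := Q.comap (QuotientGroup.mk' B) with hXdef
  have hRodd : Odd (Nat.card R) := by
    rw [hRdef, Nat.card_congr (subgroupOfEquivOfLe (inf_le_left)).toEquiv]
    exact hK.2.2 u huK
  have hQdvd : Nat.card Q ∣ Nat.card R := card_map_dvd _ _
  have hQ2 : Nat.card Q ∣ q ^ 2 - 1 := by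
    refine dvd_of_odd_of_dvd_two_pow_mul (n := n) (hRodd.of_dvd_nat hQdvd) ?_
    have h1 := B.card_mul_index
    rw [hBc, hcard] at h1
    have h2 : B.index = 2 ^ n * (q ^ 2 - 1) := Nat.eq_of_mul_eq_mul_left hb.pos (by rw [← hn, h1]; ring)
    rw [← h2, index_eq_card]
    exact Q.card_subgroup_dvd_card
  have hinvol : q ^ 2 - 1 ≤ Nat.card {v : G // orderOf v = 2 ∧ v ∈ K} := by
    have hidx : AK.index = q ^ 2 - 1 := by
      have h1 := AK.card_mul_index
      rw [hA, hcard] at h1
      exact Nat.eq_of_mul_eq_mul_left (Nat.mul_pos (by omega) hb.pos) (h1.trans (by ring))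
    rw [← hidx, index_eq_card]
    refine Nat.card_le_card_of_injective (fun c => ⟨((c.out * tK * c.out⁻¹ : K) : G),
      by rw [Subgroup.orderOf_coe, orderOf_conj, htK], (c.out * tK * c.out⁻¹).2⟩) fun a c h => ?_
    have h' : a.out * tK * a.out⁻¹ = c.out * tK * c.out⁻¹ := Subtype.ext (congrArg Subtype.val h :)
    rw [← Quotient.out_eq a, ← Quotient.out_eq c]
    refine Quotient.sound (QuotientGroup.leftRel_apply.2 (mem_centralizer_singleton_iff.2 ?_))
    calc a.out⁻¹ * c.out * tK = a.out⁻¹ * (c.out * tK * c.out⁻¹) * c.out := by group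
      _ = a.out⁻¹ * (a.out * tK * a.out⁻¹) * c.out := by rw [h']
      _ = tK * (a.out⁻¹ * c.out) := by group
  have hQ1 : q ^ 2 - 1 ≤ Nat.card Q := by
    refine hinvol.trans ((card_inverted hK hu huK).trans ?_)
    have hmemR : ∀ j : {j : G // j ∈ K ∧ u * j * u = j⁻¹}, (⟨j.1, j.2.1⟩ : K) ∈ R := by
      intro j
      rw [hRdef, mem_subgroupOf, mem_inf, Cfsg.Lib.StrongEmb.mem_conj_iff, inv_of_order_two hu]
      exact ⟨j.2.1, by rw [j.2.2]; exact inv_mem j.2.1⟩
    refine Nat.card_le_card_of_injective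
      (fun j => (⟨QuotientGroup.mk' B ⟨j.1, j.2.1⟩, mem_map_of_mem _ (hmemR j)⟩ : Q)) fun a c h => ?_
    have h' := QuotientGroup.eq.1 (congrArg Subtype.val h :)
    by_contra hne
    set d : K := (⟨a.1, a.2.1⟩ : K)⁻¹ * ⟨c.1, c.2.1⟩ with hd
    have hd1 : (d : G) ≠ 1 := fun e => hne (Subtype.ext (inv_mul_eq_one.1 e))
    have hdA : (d : G) ∈ A :=
      mem_centralizer_singleton_iff.2 (congrArg Subtype.val (mem_centralizer_singleton_iff.1 h'.1))
    have hdo : Odd (orderOf (d : G)) := by rw [Subgroup.orderOf_coe]; exact h'.2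
    have hda : a.1 * (d : G) = (d : G) * a.1 :=
      congrArg Subtype.val (hcentral d h'.1 h'.2 ⟨a.1, a.2.1⟩)
    have hud : u * (d : G) * u = (d : G)⁻¹ := by
      calc u * (d : G) * u = u * a.1⁻¹ * u * (u * c.1 * u) := by
            rw [hd]; push_cast; exact conj_mul_self hu
        _ = a.1 * ((d : G)⁻¹ * a.1⁻¹) := by rw [inv_flip hu a.2.2, c.2.2, hd]; push_cast; group
        _ = a.1 * (a.1 * (d : G))⁻¹ := by rw [mul_inv_rev]
        _ = a.1 * ((d : G) * a.1)⁻¹ := by rw [hda]
        _ = (d : G)⁻¹ := by rw [mul_inv_rev, mul_inv_cancel_left]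
    refine huK (Cfsg.Lib.StrongEmb.conj_eq hK ht (hAK htA) ?_)
    have h2 := conj_mem_cent (g := u) (x := (d : G)) (y := t) (by
      rw [hKb _ hdA hd1 hdo]; exact hAK htA)
    rw [inv_of_order_two hu, hud] at h2
    rw [← hKb _ hdA hd1 hdo]
    rw [mem_centralizer_singleton_iff] at h2 ⊢
    rw [inv_of_order_two hu]
    exact (Commute.inv_right_iff.1 h2 :)
  have hX : Nat.card X = (q ^ 2 - 1) * b := by
    have hQeq : Nat.card Q = q ^ 2 - 1 := le_antisymm (Nat.le_of_dvd (by
      have : 16 ≤ q ^ 2 := le_trans (by norm_num) (Nat.pow_le_pow_left hq4 2)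
      omega) hQ2) hQ1
    have h1 := X.card_mul_index
    rw [hXdef, index_comap_of_surjective _ (QuotientGroup.mk'_surjective B), ← B.card_mul_index, hBc,
      index_eq_card B, ← Q.card_mul_index, hQeq] at h1
    exact Nat.eq_of_mul_eq_mul_right (Nat.pos_of_ne_zero index_ne_zero_of_finite)
      (h1.trans (by ring))
  exact no_big_odd hKhyp htK hq4 ⟨n, hn⟩ hb hA hinv hcard X hX

/-- In a centreless group all centralisers of elements of `C(t)` lie in its normaliser. -/
theorem caseOne_hyp : ∀ t : G, orderOf t = 2 → ∀ z ∈ centralizer ({t} : Set G), z ≠ 1 →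
    centralizer ({z} : Set G) ≤ normalizer (centralizer ({t} : Set G) : Set G) :=
  fun _ ht _ hz hz1 => by_contra fun h => caseTwo_false hG hmod hZ ht hz hz1 h

end Cfsg.Lib.AbelianCent
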