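import Cfsg.Agent.Known.SLTwo.Torus
import Cfsg.Agent.Classical.Misc.SLTwoTori

/-!
# Centralisers of involutions and odd Sylow subgroups of `SL₂` in characteristic two
-/

set_option autoImplicit false
set_option linter.style.haveILetI false
set_option linter.unusedSectionVars false

namespace Cfsg.Lib.AbelianCent

open Matrix Subgroup Cfsg.Lib.GLTwo
open scoped MatrixGroups

variable {F : Type} [Field F] [Fintype F] [CharP F 2]

theorem nonScalar_of_ne_one {s : SL(2, F)} (h : s ≠ 1) : NonScalar (s : Matrix (Fin 2) (Fin 2) F) := by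
  intro hc
  obtain ⟨h01, h10, h00⟩ := hc
  refine h (Subtype.ext ?_)
  have hd := s.2
  rw [Matrix.det_fin_two, h01, h10, mul_zero, sub_zero, ← h00] at hd
  have h1 : (s : Matrix (Fin 2) (Fin 2) F) 0 0 = 1 := by
    rcases mul_self_eq_one_iff.1 hd with e | e
    · exact e
    · rw [e, CharTwo.neg_eq]
  ext i j
  fin_cases i <;> fin_cases j
  · exact h1
  · exact h01
  · exact h10
  · exact h00.symm.trans h1

/-- In characteristic two an element of order two has trace zero. -/
theorem trace_zero {s : SL(2, F)} (hs : s * s = 1) : (s : Matrix (Fin 2) (Fin 2) F).trace = 0 := by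
  rw [Matrix.trace_fin_two]
  have h : (s : Matrix (Fin 2) (Fin 2) F) = ((s⁻¹ : SL(2, F)) : Matrix (Fin 2) (Fin 2) F) := by
    rw [inv_eq_of_mul_eq_one_left hs]
  rw [Matrix.SpecialLinearGroup.coe_inv, Matrix.adjugate_fin_two] at h
  have h00 := congrFun (congrFun h 0) 0
  simp at h00
  rw [h00, CharTwo.add_self_eq_zero]

/-- The centraliser of an involution is elementary abelian of order `|F|`. -/
theorem cent_invol {s : SL(2, F)} (hs : s * s = 1) (h1 : s ≠ 1) :
    (∀ c ∈ centralizer ({s} : Set SL(2, F)), c * c = 1) ∧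
      Nat.card ↥(centralizer ({s} : Set SL(2, F))) = Fintype.card F := by
  have hn := nonScalar_of_ne_one h1
  have htr := trace_zero hs
  have hd := s.2
  have hss : (s : Matrix (Fin 2) (Fin 2) F) * (s : Matrix (Fin 2) (Fin 2) F) = 1 := congrArg Subtype.val hs
  have hcombo : ∀ c ∈ centralizer ({s} : Set SL(2, F)), ∃ b : F,
      (c : Matrix (Fin 2) (Fin 2) F) = combo (s : Matrix (Fin 2) (Fin 2) F) (1 + b) b := by
    intro c hc
    obtain ⟨a, b, hab⟩ := exists_combo hn (congrArg (fun z : SL(2, F) => (z : Matrix (Fin 2) (Fin 2) F))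
      (mem_centralizer_singleton_iff.1 hc))
    have h := c.2
    rw [hab, det_combo, htr, hd] at h
    have h' : (a + b - 1) * (a + b - 1) = 0 := by
      linear_combination h + (b * (a - 1) - a + 1) * CharTwo.two_eq_zero (R := F)
    have : a = 1 + b := by
      rw [mul_self_eq_zero] at h'
      linear_combination h' + (-b) * CharTwo.two_eq_zero (R := F)
    exact ⟨b, this ▸ hab⟩
  have hdet : ∀ b : F, (combo (s : Matrix (Fin 2) (Fin 2) F) (1 + b) b).det = 1 := fun b => by
    rw [det_combo, htr, hd]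
    linear_combination (b + b * b) * CharTwo.two_eq_zero (R := F)
  refine ⟨fun c hc => ?_, ?_⟩
  · obtain ⟨b, hb⟩ := hcombo c hc
    refine Subtype.ext ?_
    show (c : Matrix (Fin 2) (Fin 2) F) * (c : Matrix (Fin 2) (Fin 2) F) = 1
    rw [hb]
    generalize ha : (1 : F) + b = a
    have h2 : ∀ x : Matrix (Fin 2) (Fin 2) F, x + x = 0 := fun x => by
      ext i j; exact CharTwo.add_self_eq_zero _
    calc combo (s : Matrix (Fin 2) (Fin 2) F) a b * combo (s : Matrix (Fin 2) (Fin 2) F) a b
        = (a * a + b * b) • (1 : Matrix (Fin 2) (Fin 2) F) +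
          ((a * b) • (s : Matrix (Fin 2) (Fin 2) F) + (a * b) • (s : Matrix (Fin 2) (Fin 2) F)) := by
          simp only [combo, add_mul, mul_add, smul_mul_smul_comm, one_mul, mul_one, hss, add_smul, mul_comm b a]
          abel
      _ = 1 := by
          rw [h2, add_zero, ← ha, show (1 + b) * (1 + b) + b * b = 1 by
            linear_combination (b + b * b) * CharTwo.two_eq_zero (R := F), one_smul]
  · rw [← Nat.card_eq_fintype_card]
    refine (Nat.card_congr (Equiv.ofBijective (fun b : F =>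
      (⟨⟨combo (s : Matrix (Fin 2) (Fin 2) F) (1 + b) b, hdet b⟩, mem_centralizer_singleton_iff.2
        (Subtype.ext (combo_comm _ _ _))⟩ : ↥(centralizer ({s} : Set SL(2, F))))) ⟨?_, ?_⟩)).symm
    · intro b b' h
      exact (combo_inj hn (congrArg (fun z : ↥(centralizer ({s} : Set SL(2, F))) =>
        ((z : SL(2, F)) : Matrix (Fin 2) (Fin 2) F)) h)).2
    · rintro ⟨c, hc⟩
      obtain ⟨b, hb⟩ := hcombo c hc
      exact ⟨b, Subtype.ext (Subtype.ext hb.symm)⟩

/-- The subgroups of odd prime power order are cyclic. -/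
theorem isCyclic_of_odd {r : ℕ} [Fact r.Prime] (hr : r ≠ 2) {R : Subgroup SL(2, F)} (hR : IsPGroup r R) :
    IsCyclic ↥R := by
  haveI : Fact (Nat.Prime 2) := ⟨Nat.prime_two⟩
  rcases subsingleton_or_nontrivial ↥R with h | h
  · infer_instance
  refine Cfsg.Lib.Classical.SLTwoTori.isCyclic_of_comm 2 R ?_ fun a ha => ?_
  · haveI := hR.center_nontrivial
    obtain ⟨⟨⟨g, hgR⟩, hgZ⟩, hg1⟩ := exists_ne (1 : ↥(center ↥R))
    have hg : g ≠ 1 := fun e => hg1 (Subtype.ext (Subtype.ext e))
    have hle : ∀ a ∈ R, a ∈ centralizer ({g} : Set SL(2, F)) := fun a ha =>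
      mem_centralizer_singleton_iff.2 (congrArg Subtype.val (mem_center_iff.1 hgZ ⟨a, ha⟩))
    exact fun a ha b hb => cent_comm (nonScalar_of_ne_one hg) a (hle a ha) b (hle b hb)
  · obtain ⟨k, hk⟩ := IsPGroup.iff_orderOf.1 hR ⟨a, ha⟩
    rw [Subgroup.orderOf_mk] at hk
    rw [hk]
    exact Nat.Coprime.pow_left k ((Nat.coprime_primes Fact.out Nat.prime_two).2 hr)

end Cfsg.Lib.AbelianCent
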